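import Groth.Agent.S1967
import Groth.Agent.Etrest.StrictLoc
import Mathlib.RingTheory.Idempotents
import Mathlib.AlgebraicGeometry.Morphisms.UniversallyOpen
import Mathlib.AlgebraicGeometry.Morphisms.Flat
import Mathlib.AlgebraicGeometry.PullbackCarrier

/-!
# Clopen subsets of weakly étale schemes over open subsets of normal schemes
-/

set_option autoImplicit false
universe u

open CategoryTheory CategoryTheory.Limits AlgebraicGeometry IsLocalRing TensorProduct

namespace K157.Clop

open Groth.Agent.Etrest.StrictLoc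

/-- Clopen subsets of the part over a nonempty open subset of a weakly étale scheme over a normal integral affine
scheme extend. -/
theorem exists_clopen {N M : Type u} [CommRing N] [IsDomain N] [IsIntegrallyClosed N] [CommRing M] [Algebra N M]
    [Algebra.WeaklyEtale N M] {T₁ Q : Scheme.{u}} (ι : T₁ ⟶ Spec (CommRingCat.of N)) [IsOpenImmersion ι]
    [Nonempty T₁] {a : Q ⟶ T₁} {c : Q ⟶ Spec (CommRingCat.of M)} (H : IsPullback a c ι (spm (algebraMap N M)))
    (E : Set Q) (hE : IsClopen E) : ∃ Ê : Set (Spec (CommRingCat.of M)), IsClopen Ê ∧ c ⁻¹' Ê = E := by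
  let K := FractionRing N
  have hic : IsIntegrallyClosedIn M (M ⊗[N] K) := Groth.Agent.S1967.result N K M
  have hfl : Module.Flat N M := Algebra.WeaklyEtale.flat
  -- the generic point
  let g : Spec (CommRingCat.of K) ⟶ Spec (CommRingCat.of N) := spm (algebraMap N K)
  have hgpt (z : Spec (CommRingCat.of K)) : g z = genericPoint (Spec (CommRingCat.of N)) := by
    rw [genericPoint_eq_bot_of_affine]
    apply PrimeSpectrum.ext
    change Ideal.comap (algebraMap N K) (PrimeSpectrum.asIdeal z) = ⊥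
    have h1 : PrimeSpectrum.asIdeal z = (⊥ : Ideal K) := (Ideal.eq_bot_or_top _).resolve_right z.2.ne_top
    rw [h1]
    exact (RingHom.injective_iff_ker_eq_bot _).1 (IsFractionRing.injective N K)
  have hηι : genericPoint (Spec (CommRingCat.of N)) ∈ Set.range ι :=
    ((genericPoint_spec (Spec (CommRingCat.of N))).mem_open_set_iff ι.isOpenEmbedding.isOpen_range).2
      (by simpa using Set.range_nonempty ι)
  let γ : Spec (CommRingCat.of K) ⟶ T₁ := IsOpenImmersion.lift ι g (by
    rintro _ ⟨z, rfl⟩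
    rw [hgpt]
    exact hηι)
  have hγ : γ ≫ ι = g := IsOpenImmersion.lift_fac _ _ _
  let iM : M →+* M ⊗[N] K := (Algebra.TensorProduct.includeLeft : M →ₐ[N] M ⊗[N] K).toRingHom
  let iK : K →+* M ⊗[N] K := (Algebra.TensorProduct.includeRight : K →ₐ[N] M ⊗[N] K).toRingHom
  have hP : IsPullback (spm iM) (spm iK) (spm (algebraMap N M)) g :=
    isPullback_SpecMap_of_isPushout _ _ _ _ (CommRingCat.isPushout_tensorProduct N M K)
  let gK : Spec (CommRingCat.of (M ⊗[N] K)) ⟶ Q := H.lift (spm iK ≫ γ) (spm iM) (by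
    rw [Category.assoc, hγ, hP.w])
  have hgK1 : gK ≫ a = spm iK ≫ γ := H.lift_fst _ _ _
  have hgK2 : gK ≫ c = spm iM := H.lift_snd _ _ _
  have hPQ : IsPullback gK (spm iK) a γ := by
    refine IsPullback.of_right (h₁₂ := c) (h₂₂ := ι) (v₁₃ := spm (algebraMap N M)) ?_ hgK1 H.flip
    rw [hgK2, hγ]
    exact hP
  have hMK : Function.Injective iM := hic.algebraMap_injective
  -- the idempotent
  obtain ⟨e, he, heE⟩ := PrimeSpectrum.exists_idempotent_basicOpen_eq_of_isClopen (hE.preimage gK.continuous)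
  obtain ⟨ε, hε⟩ : ∃ ε : M, iM ε = e := by
    have h1 : IsIntegral M e := by
      refine ⟨Polynomial.X ^ 2 - Polynomial.X, ?_, ?_⟩
      · monicity!
      · simp [pow_two, he.eq]
    exact IsIntegrallyClosedIn.algebraMap_eq_of_integral h1
  have hεi : IsIdempotentElem ε := by
    apply hMK
    rw [map_mul, hε]
    exact he
  let Eh : Set (Spec (CommRingCat.of M)) := {x | ε ∉ x.asIdeal}
  have hEh : IsClopen Eh :=
    PrimeSpectrum.isClopen_basicOpen_of_mul_add ε (1 - ε) (by rw [mul_sub, mul_one, hεi.eq, sub_self]) (by ring)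
  refine ⟨Eh, hEh, ?_⟩
  have hflat : Flat a := by
    have h1 : Flat (spm (algebraMap N M)) := by
      rw [Flat.SpecMap_iff]
      exact RingHom.flat_algebraMap_iff.2 hfl
    exact MorphismProperty.of_isPullback H.flip h1
  have key (w : Spec (CommRingCat.of (M ⊗[N] K))) : c (gK w) ∈ Eh ↔ gK w ∈ E := by
    have h1 : c (gK w) = spm iM w := by rw [← Scheme.Hom.comp_apply, hgK2]
    have h2 : gK w ∈ E ↔ w ∈ (PrimeSpectrum.basicOpen e : Set (PrimeSpectrum (M ⊗[N] K))) := by
      rw [← heE]
      rfl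
    rw [h1, h2]
    change iM ε ∉ w.asIdeal ↔ e ∉ w.asIdeal
    rw [hε]
  have hgen (q : Q) : ∃ q' : Q, q' ⤳ q ∧ q' ∈ Set.range gK := by
    have h1 : γ (⊥ : PrimeSpectrum K) ⤳ a q := by
      rw [← ι.isOpenEmbedding.isInducing.specializes_iff, ← Scheme.Hom.comp_apply, hγ, hgpt]
      exact genericPoint_specializes _
    obtain ⟨q', hq', hq''⟩ := Flat.generalizingMap a h1
    obtain ⟨w, hw, -⟩ := Scheme.exists_preimage_of_isPullback hPQ q' _ hq''
    exact ⟨q', hq', w, hw⟩
  have hE' : IsClopen (c ⁻¹' Eh) := hEh.preimage c.continuous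
  ext q
  obtain ⟨q', hq, w, rfl⟩ := hgen q
  have h1 : gK w ∈ c ⁻¹' Eh ↔ gK w ∈ E := key w
  constructor
  · intro h
    exact hq.mem_closed hE.isClosed (h1.1 (hq.mem_open hE'.isOpen h))
  · intro h
    exact hq.mem_closed hE'.isClosed (h1.2 (hq.mem_open hE.isOpen h))

end K157.Clop
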