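import Groth.Agent.EtAcyc.K157.Norm
import Groth.Agent.EtAcyc.K157.Clop
import Groth.Agent.Pi1.K868.BcDef
import Groth.Agent.S0246
import Mathlib.RingTheory.IntegralClosure.GoingDown
import Mathlib.RingTheory.Ideal.MinimalPrime.Localization

/-!
# Clopen subsets of a closed fibre from strict localizations

`isPreconnected_of_local`: `B` henselian normal domain, `F = V(f)`, `U` open in `Spec B` not containing the closed point
and dense in `F`, `T₁` connected and finite étale over `U`, `V(f N)` minus the closed point connected for all normal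
`N` integral over `B`.  If the clopen subsets of the part of `T₁` over `F` lift at all strict localizations of `Spec B` at
the points of `F` different from the closed point, then the part of `T₁` over `F` is connected.
-/

set_option autoImplicit false
universe u

open CategoryTheory CategoryTheory.Limits AlgebraicGeometry IsLocalRing TensorProduct

namespace K157.Core

open Groth.Agent.Etrest.StrictLoc K868.Bc

/-- Points in the closure of a locally closed subset are specializations. -/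
theorem exists_specializes {N : Type u} [CommRing N] (I : Ideal N) (g : N) (ν : PrimeSpectrum N)
    (h : ν ∈ closure (PrimeSpectrum.zeroLocus (I : Set N) ∩ (PrimeSpectrum.basicOpen g : Set (PrimeSpectrum N)))) :
    ∃ p ∈ PrimeSpectrum.zeroLocus (I : Set N) ∩ (PrimeSpectrum.basicOpen g : Set (PrimeSpectrum N)), p ⤳ ν := by
  let R := Localization.Away (Ideal.Quotient.mk I g)
  let φ : N →+* R := (algebraMap (N ⧸ I) R).comp (Ideal.Quotient.mk I)
  have hr : Set.range (PrimeSpectrum.comap φ) =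
      PrimeSpectrum.zeroLocus (I : Set N) ∩ (PrimeSpectrum.basicOpen g : Set (PrimeSpectrum N)) := by
    rw [PrimeSpectrum.comap_comp, Set.range_comp, PrimeSpectrum.localization_away_comap_range R (Ideal.Quotient.mk I g)]
    ext x
    constructor
    · rintro ⟨y, hy, rfl⟩
      refine ⟨fun a ha => ?_, hy⟩
      change (Ideal.Quotient.mk I) a ∈ y.asIdeal
      rw [Ideal.Quotient.eq_zero_iff_mem.2 ha]
      exact y.asIdeal.zero_mem
    · rintro ⟨hx, hx'⟩
      have h1 : x ∈ Set.range (PrimeSpectrum.comap (Ideal.Quotient.mk I)) := by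
        rw [range_comap_of_surjective _ _ Ideal.Quotient.mk_surjective, Ideal.mk_ker]
        exact hx
      obtain ⟨y, rfl⟩ := h1
      exact ⟨y, hx', rfl⟩
  rw [← hr, PrimeSpectrum.closure_range_comap] at h
  have h1 : RingHom.ker φ ≤ ν.asIdeal := h
  obtain ⟨p, hp, hpν⟩ := Ideal.exists_minimalPrimes_le h1
  obtain ⟨p', hp', h2, h3⟩ := Ideal.exists_comap_eq_of_mem_minimalPrimes φ (I := ⊥) p (by
    rw [← RingHom.ker_eq_comap_bot]
    exact hp)
  refine ⟨⟨p, hp.1.1⟩, ?_, ?_⟩
  · rw [← hr]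
    exact ⟨⟨p', hp'⟩, PrimeSpectrum.ext h3⟩
  · exact (PrimeSpectrum.le_iff_specializes _ _).1 hpν

/-- Points in the closure of the intersection of a closed subset and a compact open subset are specializations. -/
theorem exists_specializes' {N : Type u} [CommRing N] (I : Ideal N) (O : Set (PrimeSpectrum N)) (hO : IsOpen O)
    (hO' : IsCompact O) (ν : PrimeSpectrum N)
    (h : ν ∈ closure (PrimeSpectrum.zeroLocus (I : Set N) ∩ O)) :
    ∃ p ∈ PrimeSpectrum.zeroLocus (I : Set N) ∩ O, p ⤳ ν := by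
  obtain ⟨s, hs, rfl⟩ : ∃ s : Set N, s.Finite ∧ O = ⋃ g ∈ s, (PrimeSpectrum.basicOpen g : Set (PrimeSpectrum N)) :=
    (isCompact_open_iff_eq_finite_iUnion_of_isTopologicalBasis
      (fun g : N => (PrimeSpectrum.basicOpen g : Set (PrimeSpectrum N)))
      PrimeSpectrum.isTopologicalBasis_basic_opens (fun g => PrimeSpectrum.isCompact_basicOpen g) O).1 ⟨hO', hO⟩
  rw [Set.inter_iUnion₂, hs.closure_biUnion] at h
  obtain ⟨g, hg, h1⟩ := Set.mem_iUnion₂.1 h
  obtain ⟨p, hp, hpν⟩ := exists_specializes I g ν h1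
  exact ⟨p, ⟨hp.1, Set.mem_iUnion₂.2 ⟨g, hg, hp.2⟩⟩, hpν⟩

/-- **The core.** -/
theorem isPreconnected_of_local {B : Type u} [CommRing B] [IsDomain B] [HenselianLocalRing B] [IsIntegrallyClosed B]
    {r : ℕ} (f : Fin r → B) {U T₁ : Scheme.{u}} (j : U ⟶ Spec (CommRingCat.of B)) [IsOpenImmersion j]
    [QuasiCompact j] (hcl : closedPoint B ∉ Set.range j)
    (hdense : ∀ x : Spec (CommRingCat.of B), (∀ i, f i ∈ x.asIdeal) → x ≠ closedPoint B →
      ∃ y ∈ Set.range j, (∀ i, f i ∈ y.asIdeal) ∧ y ⤳ x)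
    (hconn : ∀ (N : Type u) [CommRing N] [IsDomain N] [IsLocalRing N] [IsIntegrallyClosed N] [Algebra B N]
      [Algebra.IsIntegral B N], Function.Injective (algebraMap B N) →
      _root_.IsPreconnected {x : PrimeSpectrum N | (∀ i, algebraMap B N (f i) ∈ x.asIdeal) ∧ x ≠ closedPoint N})
    (h : T₁ ⟶ U) [IsFinite h] [IsIntegral T₁] (hT : Pi1.IsNormalScheme T₁) [Surjective h]
    [TopologicalSpace.NoetherianSpace T₁]
    (hloc : ∀ y : Spec (CommRingCat.of B), (∀ i, f i ∈ y.asIdeal) → y ≠ closedPoint B →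
      ∃ (B' : Type u) (_ : CommRing B') (_ : IsLocalRing B') (_ : Algebra B B') (_ : Algebra.WeaklyEtale B B'),
        spm (algebraMap B B') (closedPoint B') = y ∧
        ∀ ⦃Q : Scheme.{u}⦄ (a : Q ⟶ T₁) (c : Q ⟶ Spec (CommRingCat.of B')),
          IsPullback a c (h ≫ j) (spm (algebraMap B B')) →
          ClSurj {z : Q | ∀ i, f i ∈ (j (h (a z))).asIdeal}) :
    _root_.IsPreconnected {x : T₁ | ∀ i, f i ∈ (j (h x)).asIdeal} := by
  obtain ⟨N, _, _, _, _, _, _, ι, hinj, hP⟩ := Norm.exists_norm j h hT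
  have hFS : FaithfulSMul B N := (faithfulSMul_iff_algebraMap_injective B N).2 hinj
  have hιoi : IsOpenImmersion ι := MorphismProperty.of_isPullback hP.flip inferInstance
  have hιB (x : T₁) : spm (algebraMap B N) (ι x) = j (h x) := by
    rw [← Scheme.Hom.comp_apply, hP.w, Scheme.Hom.comp_apply]
  let FN : Set (Spec (CommRingCat.of N)) := {x | ∀ i, algebraMap B N (f i) ∈ x.asIdeal}
  let I : Ideal N := Ideal.span (Set.range fun i => algebraMap B N (f i))
  have hFN : FN = PrimeSpectrum.zeroLocus (I : Set N) := by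
    ext x
    constructor
    · intro hx
      exact Ideal.span_le.2 (by rintro _ ⟨i, rfl⟩; exact hx i)
    · intro hx i
      exact hx (Ideal.subset_span ⟨i, rfl⟩)
  have hFT (x : T₁) : (∀ i, f i ∈ (j (h x)).asIdeal) ↔ ι x ∈ FN := by
    refine forall_congr' fun i => ?_
    rw [← hιB]
    rfl
  let F₁ : Set T₁ := {x | ∀ i, f i ∈ (j (h x)).asIdeal}
  let Us : Set (Spec (CommRingCat.of N)) := {x | (∀ i, algebraMap B N (f i) ∈ x.asIdeal) ∧ x ≠ closedPoint N}
  have hUs : _root_.IsPreconnected Us := hconn N hinj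
  have hcpt (x : Spec (CommRingCat.of N)) (hx : spm (algebraMap B N) x = closedPoint B) : x = closedPoint N := by
    have h1 : ((PrimeSpectrum.asIdeal x).comap (algebraMap B N)).IsMaximal := by
      have h2 : (PrimeSpectrum.asIdeal x).comap (algebraMap B N) = maximalIdeal B := congrArg PrimeSpectrum.asIdeal hx
      rw [h2]
      infer_instance
    exact PrimeSpectrum.ext (IsLocalRing.eq_maximalIdeal (Ideal.isMaximal_of_isIntegral_of_isMaximal_comap _ h1))
  have hιUs (x : T₁) (hx : x ∈ F₁) : ι x ∈ Us := by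
    refine ⟨(hFT x).1 hx, fun h1 => hcl ?_⟩
    have hLH : IsLocalHom (algebraMap B N) :=
      RingHom.IsIntegral.isLocalHom (algebraMap_isIntegral_iff.2 inferInstance) hinj
    have h2 : spm (algebraMap B N) (closedPoint N) = closedPoint B :=
      Spec_closedPoint (R := CommRingCat.of B) (S := CommRingCat.of N) (f := CommRingCat.ofHom (algebraMap B N))
    have h3 : ι x = (closedPoint N : Spec (CommRingCat.of N)) := h1
    exact ⟨h x, by rw [← hιB, h3, h2]⟩
  -- suppose not
  intro O₁ O₂ hO₁ hO₂ hcov ⟨e₁, he₁, he₁'⟩ ⟨e₂, he₂, he₂'⟩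
  by_contra hemp
  have hdisj : ∀ x ∈ F₁, x ∈ O₁ → x ∈ O₂ → False := fun x h1 h2 h3 => hemp ⟨x, h1, h2, h3⟩
  let C₁ := closure (ι '' (F₁ ∩ O₁))
  let C₂ := closure (ι '' (F₁ ∩ O₂))
  have hcover : Us ⊆ C₁ ∪ C₂ := by
    intro ν hν
    have hy : spm (algebraMap B N) ν ≠ closedPoint B := fun h1 => hν.2 (hcpt ν h1)
    obtain ⟨u, ⟨u', rfl⟩, hu, huy⟩ := hdense (spm (algebraMap B N) ν) hν.1 hy
    have hgd : GeneralizingMap (PrimeSpectrum.comap (algebraMap B N)) :=
      Algebra.HasGoingDown.iff_generalizingMap_primeSpectrumComap.1 inferInstance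
    obtain ⟨ν₁, hν₁, hν₁'⟩ := hgd huy
    obtain ⟨t, ht, ht'⟩ := Scheme.exists_preimage_of_isPullback hP ν₁ u' hν₁'
    have htF : t ∈ F₁ := (hFT t).2 (by
      rw [ht]
      intro i
      have h1 : f i ∈ (spm (algebraMap B N) ν₁).asIdeal := by
        have h2 : spm (algebraMap B N) ν₁ = j u' := hν₁'
        rw [h2]
        exact hu i
      exact h1)
    rcases hcov htF with h1 | h1
    · exact Or.inl (Specializes.mem_closed hν₁ isClosed_closure (subset_closure ⟨t, ⟨htF, h1⟩, ht⟩))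
    · exact Or.inr (Specializes.mem_closed hν₁ isClosed_closure (subset_closure ⟨t, ⟨htF, h1⟩, ht⟩))
  have hsp (O : Set T₁) (hO : IsOpen O) (ν : Spec (CommRingCat.of N)) (hν : ν ∈ closure (ι '' (F₁ ∩ O))) :
      ∃ e ∈ F₁ ∩ O, ι e ⤳ ν := by
    have h1 : ι '' (F₁ ∩ O) = PrimeSpectrum.zeroLocus (I : Set N) ∩ ι '' O := by
      rw [← hFN]
      ext x
      constructor
      · rintro ⟨e, he, rfl⟩
        exact ⟨(hFT e).1 he.1, e, he.2, rfl⟩
      · rintro ⟨hx, e, he, rfl⟩
        exact ⟨e, ⟨(hFT e).2 hx, he⟩, rfl⟩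
    rw [h1] at hν
    obtain ⟨p, ⟨hp1, e, he, rfl⟩, hpν⟩ := exists_specializes' I (ι '' O) (ι.isOpenEmbedding.isOpenMap _ hO)
      ((TopologicalSpace.NoetherianSpace.isCompact O).image ι.continuous) ν hν
    rw [← hFN] at hp1
    exact ⟨e, ⟨(hFT e).2 hp1, he⟩, hpν⟩
  obtain ⟨ν, hνU, hν₁, hν₂⟩ := isPreconnected_closed_iff.1 hUs C₁ C₂ isClosed_closure isClosed_closure hcover
    ⟨ι e₁, hιUs e₁ he₁, subset_closure ⟨e₁, ⟨he₁, he₁'⟩, rfl⟩⟩ ⟨ι e₂, hιUs e₂ he₂, subset_closure ⟨e₂, ⟨he₂, he₂'⟩, rfl⟩⟩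
  -- the local situation
  obtain ⟨B', _, _, _, _, hy', hB'⟩ := hloc (spm (algebraMap B N) ν) hνU.1 (fun h1 => hνU.2 (hcpt ν h1))
  let M := N ⊗[B] B'
  have hwe : Algebra.WeaklyEtale N M := inferInstance
  let sM : Spec (CommRingCat.of M) ⟶ Spec (CommRingCat.of N) := spm (algebraMap N M)
  let iB : Spec (CommRingCat.of M) ⟶ Spec (CommRingCat.of B') :=
    spm (Algebra.TensorProduct.includeRight : B' →ₐ[B] N ⊗[B] B').toRingHom
  have hM : IsPullback sM iB (spm (algebraMap B N)) (spm (algebraMap B B')) :=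
    isPullback_SpecMap_of_isPushout _ _ _ _ (CommRingCat.isPushout_tensorProduct B N B')
  obtain ⟨ν', hν', hν''⟩ := Scheme.exists_preimage_of_isPullback hM ν (closedPoint B') hy'.symm
  let Q := pullback ι sM
  let a : Q ⟶ T₁ := pullback.fst ι sM
  let c : Q ⟶ Spec (CommRingCat.of M) := pullback.snd ι sM
  have hQ : IsPullback a c ι sM := IsPullback.of_hasPullback ι sM
  have hQ2 : IsPullback a (c ≫ iB) (h ≫ j) (spm (algebraMap B B')) := by
    have h1 := hQ.paste_vert hM
    rw [hP.w] at h1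
    exact h1
  have hflat : Flat sM := by
    rw [Flat.SpecMap_iff]
    exact RingHom.flat_algebraMap_iff.2 Algebra.WeaklyEtale.flat
  -- the clopen subset
  let FQ : Set Q := {z : Q | ∀ i, f i ∈ (j (h (a z))).asIdeal}
  let D : Set Q := a ⁻¹' (F₁ ∩ O₁)
  obtain ⟨C, hC, hCD⟩ := hB' a (c ≫ iB) hQ2 D (fun z hz => hz.1) (by
    have h1 : ((Subtype.val : FQ → Q) ⁻¹' D) = (Subtype.val : FQ → Q) ⁻¹' (a ⁻¹' O₁) := by
      ext z
      exact ⟨fun hz => hz.2, fun hz => ⟨z.2, hz⟩⟩
    have h2 : ((Subtype.val : FQ → Q) ⁻¹' D)ᶜ = (Subtype.val : FQ → Q) ⁻¹' (a ⁻¹' O₂) := by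
      ext z
      constructor
      · intro hz
        exact (hcov (z.2 : a z.1 ∈ F₁)).resolve_left fun h3 => hz ⟨z.2, h3⟩
      · intro hz hz'
        exact hdisj (a z.1) z.2 hz'.2 hz
    constructor
    · rw [← isOpen_compl_iff, h2]
      exact (hO₂.preimage a.continuous).preimage continuous_subtype_val
    · rw [h1]
      exact (hO₁.preimage a.continuous).preimage continuous_subtype_val)
  obtain ⟨Ch, hCh, hcC⟩ := Clop.exists_clopen ι hQ C hC
  have hmem (e : T₁) (he : e ∈ F₁) (hes : ι e ⤳ ν) : ∃ w : Q, a w = e ∧ c w ⤳ ν' := by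
    have h1 : ι e ⤳ sM ν' := by rw [hν']; exact hes
    obtain ⟨m, hm, hm'⟩ := Flat.generalizingMap sM h1
    obtain ⟨w, hw, hw'⟩ := Scheme.exists_preimage_of_isPullback hQ e m hm'.symm
    exact ⟨w, hw, by rw [hw']; exact hm⟩
  by_cases hcase : ν' ∈ Ch
  · obtain ⟨e, ⟨heF, heO⟩, hes⟩ := hsp O₂ hO₂ ν hν₂
    obtain ⟨w, hw, hcw⟩ := hmem e heF hes
    have h1 : w ∈ C := by
      rw [← hcC]
      exact hcw.mem_open hCh.isOpen hcase
    have h2 : w ∈ D := by
      rw [← hCD]
      exact ⟨h1, by rw [← hw] at heF; exact heF⟩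
    have h3 : e ∈ O₁ := by
      rw [← hw]
      exact h2.2
    exact hdisj e heF h3 heO
  · obtain ⟨e, ⟨heF, heO⟩, hes⟩ := hsp O₁ hO₁ ν hν₁
    obtain ⟨w, hw, hcw⟩ := hmem e heF hes
    have h2 : w ∈ D := by
      constructor
      · rw [hw]; exact heF
      · rw [hw]; exact heO
    rw [← hCD] at h2
    have h1 : c w ∈ Ch := by
      have := h2.1
      rw [← hcC] at this
      exact this
    exact hcase (hcw.mem_closed hCh.isClosed h1)

end K157.Core
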