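import Groth.Agent.EtAcyc.K157.AlgTop
import Groth.Agent.EtAcyc.K157.Core
import Groth.Agent.Pi1A.NormalEtale

/-!
# Clopen subsets of finite étale covers of normal schemes, via the connected components
-/

set_option autoImplicit false
universe u

open CategoryTheory CategoryTheory.Limits AlgebraicGeometry IsLocalRing

namespace K157.AlgComp

open Groth.Agent.Etrest.StrictLoc K868.Bc

/-- Clopen subsets of a finite étale cover `P` of an integral normal scheme `U`: reduction to the connected components. -/
theorem clSurj_of_comp {U P : Scheme.{u}} [IsIntegral U] (hU : Pi1.IsNormalScheme U) (f : P ⟶ U) [IsFinite f] [Etale f]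
    [TopologicalSpace.NoetherianSpace P] (F : Set P)
    (h : ∀ (T₁ : Scheme.{u}) (k : T₁ ⟶ P) (_ : IsOpenImmersion k) (_ : IsClosed (Set.range k))
      (_ : IsFinite (k ≫ f)) (_ : IsIntegral T₁) (_ : Pi1.IsNormalScheme T₁) (_ : Surjective (k ≫ f)),
      _root_.IsPreconnected (k ⁻¹' F)) : ClSurj F := by
  refine AlgTop.clSurj_of_components F fun x hx => ?_
  let T₁ : P.Opens := ⟨connectedComponent x, K868.ConnComp.isOpen_cc x⟩
  let k : (T₁ : Scheme.{u}) ⟶ P := T₁.ι
  have hr : Set.range k = connectedComponent x := T₁.range_ι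
  have hc : IsClosed (Set.range k) := by
    rw [hr]
    exact isClosed_connectedComponent
  have h1 : IsClosedImmersion k := IsClosedImmersion.of_isPreimmersion k hc
  have h2 : IsFinite (k ≫ f) := inferInstance
  have h3 : ConnectedSpace (T₁ : Scheme.{u}) := by
    have h4 : _root_.IsConnected (T₁ : Set P) := isConnected_connectedComponent
    exact isConnected_iff_connectedSpace.1 h4
  have h5 : IsIntegral (T₁ : Scheme.{u}) := Groth.Agent.Pi1A.NormalEtale.isIntegral_of_connectedSpace hU (k ≫ f)
  have h6 : Pi1.IsNormalScheme (T₁ : Scheme.{u}) :=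
    Groth.Agent.Pi1A.NormalEtale.isDomain_stalk_and_isIntegrallyClosed_stalk hU (k ≫ f)
  have h7 : Surjective (k ≫ f) := by
    have h8 : IsOpen (Set.range (k ≫ f)) := (k ≫ f).isOpenMap.isOpen_range
    have h9 : IsClosed (Set.range (k ≫ f)) := (k ≫ f).isClosedMap.isClosed_range
    have h10 : Set.range (k ≫ f) = Set.univ := IsClopen.eq_univ ⟨h9, h8⟩ (Set.range_nonempty _)
    exact ⟨Set.range_eq_univ.1 h10⟩
  have h11 := h T₁ k inferInstance hc h2 h5 h6 h7
  have h12 : connectedComponent x ∩ F = k '' (k ⁻¹' F) := by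
    rw [Set.image_preimage_eq_inter_range, hr, Set.inter_comm]
  rw [h12]
  exact h11.image _ k.continuous.continuousOn

end K157.AlgComp
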