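import Groth.Agent.EtAcyc.K157.AlgSit
import Groth.Agent.EtAcyc.K157.AlgComp

/-!
# Clopen subsets of covers: the case of a trivial cover
-/

set_option autoImplicit false
universe u

open CategoryTheory CategoryTheory.Limits AlgebraicGeometry IsLocalRing

namespace K157.AlgCase

open Groth.Agent.Etrest.StrictLoc K868.Bc

/-- Closed subsets of a local scheme are connected. -/
theorem isPreconnected_closed {N : Type u} [CommRing N] [IsLocalRing N] (Z : Set (PrimeSpectrum N))
    (hZ : IsClosed Z) : _root_.IsPreconnected Z := by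
  intro O₁ O₂ hO₁ hO₂ hc ⟨x, hxZ, hx⟩ ⟨y, hyZ, hy⟩
  have hcl : closedPoint N ∈ Z := (IsLocalRing.specializes_closedPoint x).mem_closed hZ hxZ
  rcases hc hcl with h | h
  · exact ⟨y, hyZ, (IsLocalRing.specializes_closedPoint y).mem_open hO₁ h, hy⟩
  · exact ⟨x, hxZ, hx, (IsLocalRing.specializes_closedPoint x).mem_open hO₂ h⟩

variable {A : Type u} [CommRing A] [IsDomain A] [IsIntegrallyClosed A] {U : Scheme.{u}}
  (j : U ⟶ Spec (CommRingCat.of A)) [IsOpenImmersion j]

theorem isNormalRing : EGA4.IsNormalRing A := by
  intro p hp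
  exact ⟨inferInstance, isIntegrallyClosed_of_isLocalization (Localization.AtPrime p) p.primeCompl
    p.primeCompl_le_nonZeroDivisors⟩

include j in
theorem isNormalScheme : Pi1.IsNormalScheme U := by
  intro x
  have h1 := AlgPt.stalk_spec (R := CommRingCat.of A) isNormalRing (j x)
  exact AlgPt.transport (asIso (j.stalkMap x)).commRingCatIsoToRingEquiv h1

omit [IsIntegrallyClosed A] in
include j in
theorem isIntegral [Nonempty U] : IsIntegral U := isIntegral_of_isOpenImmersion j

omit [IsDomain A] [IsIntegrallyClosed A] in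
include j in
theorem noetherianSpace [IsNoetherianRing A] {P : Scheme.{u}} (f : P ⟶ U) [IsFinite f] :
    TopologicalSpace.NoetherianSpace P := by
  have h1 : IsLocallyNoetherian U := isLocallyNoetherian_of_isOpenImmersion j
  have h2 : CompactSpace U := by
    have h3 : TopologicalSpace.NoetherianSpace (Spec (CommRingCat.of A)) := inferInstance
    exact (j.isOpenEmbedding.isInducing.noetherianSpace).compactSpace
  have h4 : IsLocallyNoetherian P := LocallyOfFiniteType.isLocallyNoetherian f
  have h5 : CompactSpace P := QuasiCompact.compactSpace_of_compactSpace f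
  have h6 : IsNoetherian P := {}
  infer_instance

/-- the case in which the cover extends -/
theorem caseA [HenselianLocalRing A] [IsNoetherianRing A] [IsIso j] {P : Scheme.{u}} (f : P ⟶ U) [IsFinite f]
    [Etale f] (F : Set P) (hF : IsClosed F) : ClSurj F := by
  have hne : Nonempty U := ⟨(inv j) (closedPoint A)⟩
  have h1 : IsIntegral U := isIntegral j
  have h2 : TopologicalSpace.NoetherianSpace P := noetherianSpace j f
  refine AlgComp.clSurj_of_comp (isNormalScheme j) f F ?_
  intro T₁ k _ _ _ _ hT _
  obtain ⟨N, _, _, _, _, _, _, ι, -, hP⟩ := Norm.exists_norm j (k ≫ f) hT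
  have h3 : IsIso ι := MorphismProperty.of_isPullback (P := MorphismProperty.isomorphisms Scheme.{u}) hP.flip
    (inferInstanceAs (IsIso j))
  have h4 : IsClosed (ι.homeomorph '' (k ⁻¹' F)) := ι.homeomorph.isClosedMap _ (hF.preimage k.continuous)
  exact ι.homeomorph.isPreconnected_image.1 (isPreconnected_closed (N := N) _ h4)

end K157.AlgCase
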