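import Groth.Agent.Pi1.K868.BcDef
import Groth.Agent.Sga1.UlaSL
import Groth.Agent.Smoothlim.FTZ
import Groth.Agent.CAlg.K71.HensGRing
import Groth.Agent.S2670
import Groth.Agent.S2748
import Groth.Agent.S2046
import Groth.Agent.S0540
import Mathlib.AlgebraicGeometry.PullbackCarrier

/-!
# Strict localizations of schemes locally of finite type over the integers

Noetherian, G-rings; normality of the base change of a normal morphism to a normal scheme.
-/

set_option autoImplicit false
universe u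

open CategoryTheory CategoryTheory.Limits AlgebraicGeometry IsLocalRing TensorProduct

namespace K157.AlgPt

open Groth.Agent.Etrest.StrictLoc K868.Bc

theorem isLocallyNoetherian {S : Scheme.{u}} (hS : FTZ S) : IsLocallyNoetherian S :=
  ⟨fun U => by
    have := hS U.1 U.2
    exact (K71.HensGRing.isGRing_of_finiteType_int Γ(S, U.1)).1⟩

theorem lft_of_ftz {S : Scheme.{u}} (hS : FTZ S) :
    LocallyOfFiniteType (Limits.IsTerminal.from specULiftZIsTerminal S) := by
  rw [HasRingHomProperty.iff_appLE (P := @LocallyOfFiniteType)]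
  rintro U V e
  exact Groth.Agent.Smoothlim.FTZ.ringHom_finiteType _ (hS V.1 V.2)

theorem ftz_of_lft {X S : Scheme.{u}} (f : X ⟶ S) [LocallyOfFiniteType f] (hS : FTZ S) : FTZ X := by
  intro U hU
  have h1 := lft_of_ftz hS
  have h2 : LocallyOfFiniteType (Limits.IsTerminal.from specULiftZIsTerminal X) := by
    rw [show Limits.IsTerminal.from specULiftZIsTerminal X = f ≫ Limits.IsTerminal.from specULiftZIsTerminal S from
      specULiftZIsTerminal.hom_ext _ _]
    infer_instance
  exact Groth.Agent.Smoothlim.FTZ.finiteType_Γ hU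

theorem isGRing_stalk {X : Scheme.{u}} (hX : FTZ X) (x : X) : CAlg.IsGRing (X.presheaf.stalk x) := by
  obtain ⟨U, hU, hxU, -⟩ := exists_isAffineOpen_mem_and_subset (U := ⊤) (x := x) trivial
  have := hU.isLocalization_stalk ⟨x, hxU⟩
  have := hX U hU
  let _ : Algebra Γ(X, U) (X.presheaf.stalk x) :=
    TopCat.Presheaf.algebra_section_stalk X.presheaf (⟨x, hxU⟩ : U)
  exact Groth.Agent.Ega4B.GRingLoc.isGRing_of_isLocalization Γ(X, U) (X.presheaf.stalk x)
    (hU.primeIdealOf ⟨x, hxU⟩).asIdeal.primeCompl (K71.HensGRing.isGRing_of_finiteType_int Γ(X, U))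

/-- Strict localizations of schemes locally of finite type over `ℤ` are Noetherian. -/
theorem isNoetherianRing {X : Scheme.{u}} (hX : FTZ X) {A : Type u} [CommRing A] [IsLocalRing A]
    {σ : Spec (CommRingCat.of A) ⟶ X} (hσ : IsStrictLoc σ) : IsNoetherianRing A := by
  obtain ⟨_, _, _, -⟩ := Groth.Agent.Sga1.UlaSL.exists_specOf hσ _ rfl
  exact (Groth.Agent.S0540.result (X.presheaf.stalk (σ (closedPoint A))) A).1 (isGRing_stalk hX _).1

/-- Strict localizations of schemes locally of finite type over `ℤ` are G-rings. -/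
theorem isGRing {X : Scheme.{u}} (hX : FTZ X) {A : Type u} [CommRing A] [IsLocalRing A]
    {σ : Spec (CommRingCat.of A) ⟶ X} (hσ : IsStrictLoc σ) : CAlg.IsGRing A := by
  obtain ⟨_, _, _, -⟩ := Groth.Agent.Sga1.UlaSL.exists_specOf hσ _ rfl
  have := (isGRing_stalk hX (σ (closedPoint A))).1
  exact Groth.Agent.S2046.result (isGRing_stalk hX (σ (closedPoint A)))

/-- Strict localizations of a normal scheme are normal. -/
theorem isNormal {X : Scheme.{u}} {A : Type u} [CommRing A] [IsLocalRing A]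
    {σ : Spec (CommRingCat.of A) ⟶ X} (hσ : IsStrictLoc σ)
    (hX : IsDomain (X.presheaf.stalk (σ (closedPoint A))) ∧
      IsIntegrallyClosed (X.presheaf.stalk (σ (closedPoint A)))) : IsDomain A ∧ IsIntegrallyClosed A := by
  obtain ⟨_, _, _, -⟩ := Groth.Agent.Sga1.UlaSL.exists_specOf hσ _ rfl
  exact (Groth.Agent.S2748.result (X.presheaf.stalk (σ (closedPoint A))) A).2 hX

/-- transport of normality along ring isomorphisms -/
theorem transport {R R' : Type u} [CommRing R] [CommRing R'] (e : R ≃+* R')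
    (h : IsDomain R ∧ IsIntegrallyClosed R) : IsDomain R' ∧ IsIntegrallyClosed R' := by
  have := h.1
  have := h.2
  have h1 : IsDomain R' := MulEquiv.isDomain R e.symm.toMulEquiv
  exact ⟨h1, IsIntegrallyClosed.of_equiv e⟩

theorem stalk_spec {R : CommRingCat.{u}} (hR : EGA4.IsNormalRing R) (z : Spec R) :
    IsDomain ((Spec R).presheaf.stalk z) ∧ IsIntegrallyClosed ((Spec R).presheaf.stalk z) :=
  transport (StructureSheaf.stalkIso R z).toRingEquiv (hR (PrimeSpectrum.asIdeal z))

theorem stalk_of_isOpenImmersion {X Y : Scheme.{u}} (j : X ⟶ Y) [IsOpenImmersion j] (x : X) (y : Y) (h : j x = y)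
    (hx : IsDomain (X.presheaf.stalk x) ∧ IsIntegrallyClosed (X.presheaf.stalk x)) :
    IsDomain (Y.presheaf.stalk y) ∧ IsIntegrallyClosed (Y.presheaf.stalk y) := by
  subst h
  exact transport (asIso (j.stalkMap x)).symm.commRingCatIsoToRingEquiv hx

theorem isNormalRing_of_stalk {T : Scheme.{u}} (W : T.Opens) (hW : IsAffineOpen W)
    (hT : ∀ z : T, IsDomain (T.presheaf.stalk z) ∧ IsIntegrallyClosed (T.presheaf.stalk z)) :
    EGA4.IsNormalRing Γ(T, W) := by
  intro p hp
  let z : Spec Γ(T, W) := ⟨p, hp⟩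
  have h1 : IsDomain ((Spec Γ(T, W)).presheaf.stalk z) ∧ IsIntegrallyClosed ((Spec Γ(T, W)).presheaf.stalk z) :=
    transport (asIso (hW.fromSpec.stalkMap z)).commRingCatIsoToRingEquiv (hT (hW.fromSpec z))
  exact transport (StructureSheaf.stalkIso Γ(T, W) z).symm.toRingEquiv h1

/-- The base change of a normal morphism to a normal scheme is normal. -/
theorem isNormal_pullback {X S T : Scheme.{u}} (hS : FTZ S) (g : X ⟶ S) [LocallyOfFiniteType g] (a : T ⟶ S)
    (hg : ∀ (U : X.Opens) (W : S.Opens) (_ : IsAffineOpen U) (_ : IsAffineOpen W) (hUW : U ≤ g ⁻¹ᵁ W),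
      letI := (g.appLE W U hUW).hom.toAlgebra
      EGA4.IsNormalHom Γ(S, W) Γ(X, U))
    (hT : ∀ z : T, IsDomain (T.presheaf.stalk z) ∧ IsIntegrallyClosed (T.presheaf.stalk z))
    (z : ↥(pullback g a)) :
    IsDomain ((pullback g a).presheaf.stalk z) ∧ IsIntegrallyClosed ((pullback g a).presheaf.stalk z) := by
  obtain ⟨W, hW, hzW, -⟩ := exists_isAffineOpen_mem_and_subset (U := ⊤) (x := g (pullback.fst g a z)) trivial
  obtain ⟨U, hU, hzU, hUW⟩ := exists_isAffineOpen_mem_and_subset (U := g ⁻¹ᵁ W) (x := pullback.fst g a z) hzW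
  obtain ⟨T', hT', hzT, hTW⟩ := exists_isAffineOpen_mem_and_subset (U := a ⁻¹ᵁ W) (x := pullback.snd g a z) (by
    change a (pullback.snd g a z) ∈ W
    rw [← Scheme.Hom.comp_apply, ← pullback.condition, Scheme.Hom.comp_apply]
    exact hzW)
  let φ := g.appLE W U hUW
  let ψ := a.appLE W T' hTW
  let m : pullback (Spec.map φ) (Spec.map ψ) ⟶ pullback g a :=
    pullback.map (Spec.map φ) (Spec.map ψ) g a hU.fromSpec hT'.fromSpec hW.fromSpec
      (IsAffineOpen.SpecMap_appLE_fromSpec g hW hU hUW) (IsAffineOpen.SpecMap_appLE_fromSpec a hW hT' hTW)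
  have hm : z ∈ Set.range m := by
    have h0 := Scheme.Pullback.range_map (Spec.map φ) (Spec.map ψ) g a hU.fromSpec hT'.fromSpec hW.fromSpec
      (IsAffineOpen.SpecMap_appLE_fromSpec g hW hU hUW) (IsAffineOpen.SpecMap_appLE_fromSpec a hW hT' hTW)
    change Set.range m = _ at h0
    rw [h0]
    refine ⟨?_, ?_⟩
    · change pullback.fst g a z ∈ Set.range hU.fromSpec
      rw [hU.range_fromSpec]
      exact hzU
    · change pullback.snd g a z ∈ Set.range hT'.fromSpec
      rw [hT'.range_fromSpec]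
      exact hzT
  obtain ⟨w, hw⟩ := hm
  refine stalk_of_isOpenImmersion m w z hw ?_
  let _ : Algebra Γ(S, W) Γ(X, U) := φ.hom.toAlgebra
  let _ : Algebra Γ(S, W) Γ(T, T') := ψ.hom.toAlgebra
  have hn : EGA4.IsNormalHom Γ(S, W) Γ(X, U) := hg U W hU hW hUW
  have := hS W hW
  have := ftz_of_lft g hS U hU
  have hN1 : IsNoetherianRing Γ(S, W) := (K71.HensGRing.isGRing_of_finiteType_int Γ(S, W)).1
  have hN2 : IsNoetherianRing Γ(X, U) := (K71.HensGRing.isGRing_of_finiteType_int Γ(X, U)).1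
  have h1 : EGA4.IsNormalRing (Γ(X, U) ⊗[Γ(S, W)] Γ(T, T')) :=
    Groth.Agent.S2670.result Γ(S, W) Γ(X, U) hn Γ(T, T') (isNormalRing_of_stalk T' hT' hT)
  let e : pullback (Spec.map φ) (Spec.map ψ) ≅ Spec (CommRingCat.of (Γ(X, U) ⊗[Γ(S, W)] Γ(T, T'))) :=
    pullbackSpecIso Γ(S, W) Γ(X, U) Γ(T, T')
  exact stalk_of_isOpenImmersion e.inv (e.hom w) w (by
    rw [← Scheme.Hom.comp_apply, e.hom_inv_id]
    rfl) (stalk_spec h1 _)

end K157.AlgPt
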