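import Groth.Agent.Sga1.UlaSL
import Groth.Agent.S0541
import Groth.Agent.EtAcyc.K157.AlgPt
import Mathlib.RingTheory.Ideal.KrullsHeightTheorem
import Mathlib.RingTheory.Flat.FaithfullyFlat.Basic

/-!
# Dimensions of strict localizations
-/

set_option autoImplicit false
universe u

open CategoryTheory CategoryTheory.Limits AlgebraicGeometry IsLocalRing

namespace K157.AlgDim

open Groth.Agent.Etrest.StrictLoc Groth.Agent.Sga1.UlaSL

theorem dim_ge {O A : Type u} [CommRing O] [IsLocalRing O] [IsNoetherianRing O] [CommRing A] [IsLocalRing A]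
    [IsNoetherianRing A] [Algebra O A] [IsLocalHom (algebraMap O A)] [Module.Flat O A] (z₀ z₁ : PrimeSpectrum A)
    (h0 : (maximalIdeal O).map (algebraMap O A) ≤ z₀.asIdeal) (h1 : z₀ < z₁) (h2 : z₁ < closedPoint A) :
    ringKrullDim O + 2 ≤ ringKrullDim A := by
  have hlo : (maximalIdeal A).LiesOver (maximalIdeal O) :=
    ⟨(((IsLocalRing.local_hom_TFAE (algebraMap O A)).out 0 4 rfl rfl).1 ‹_›).symm⟩
  have hgd : Algebra.HasGoingDown O A := inferInstance
  have key := Ideal.height_eq_height_add_of_liesOver_of_hasGoingDown (maximalIdeal O) (maximalIdeal A)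
  let I : Ideal A := (maximalIdeal O).map (algebraMap O A)
  let q : A →+* A ⧸ I := Ideal.Quotient.mk I
  have hq : Function.Surjective q := Ideal.Quotient.mk_surjective
  have hlift (z : PrimeSpectrum A) (hz : I ≤ z.asIdeal) : ∃ w : PrimeSpectrum (A ⧸ I), PrimeSpectrum.comap q w = z := by
    have h6 : z ∈ Set.range (PrimeSpectrum.comap q) := by
      rw [range_comap_of_surjective _ _ hq, Ideal.mk_ker]
      exact hz
    exact h6
  have hrefl (w w' : PrimeSpectrum (A ⧸ I)) (h : PrimeSpectrum.comap q w < PrimeSpectrum.comap q w') :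
      w.asIdeal < w'.asIdeal := by
    rw [lt_iff_le_not_ge] at h ⊢
    exact ⟨(Ideal.comap_le_comap_iff_of_surjective q hq _ _).1 h.1,
      fun h3 => h.2 ((Ideal.comap_le_comap_iff_of_surjective q hq _ _).2 h3)⟩
  obtain ⟨w₀, hw₀⟩ := hlift z₀ h0
  obtain ⟨w₁, hw₁⟩ := hlift z₁ (h0.trans h1.le)
  obtain ⟨w₂, hw₂⟩ := hlift (closedPoint A) (h0.trans (h1.trans h2).le)
  have h3 : w₀.asIdeal < w₁.asIdeal := hrefl _ _ (by rw [hw₀, hw₁]; exact h1)
  have h4 : w₁.asIdeal < w₂.asIdeal := hrefl _ _ (by rw [hw₁, hw₂]; exact h2)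
  have h5 := Ideal.height_add_one_le_of_lt_of_isPrime h3
  have h6 := Ideal.height_add_one_le_of_lt_of_isPrime h4
  have h7 : (maximalIdeal A).map q = w₂.asIdeal := by
    have h8 : maximalIdeal A = w₂.asIdeal.comap q := (congrArg PrimeSpectrum.asIdeal hw₂).symm
    rw [h8, Ideal.map_comap_of_surjective q hq]
  have h9 : (2 : ℕ∞) ≤ ((maximalIdeal A).map q).height := by
    rw [h7]
    calc (2 : ℕ∞) = 0 + 1 + 1 := by norm_num
      _ ≤ w₀.asIdeal.height + 1 + 1 := by gcongr; exact zero_le
      _ ≤ w₁.asIdeal.height + 1 := by gcongr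
      _ ≤ w₂.asIdeal.height := h6
  rw [← IsLocalRing.maximalIdeal_height_eq_ringKrullDim, ← IsLocalRing.maximalIdeal_height_eq_ringKrullDim, key]
  have h10 : (maximalIdeal O).height + 2 ≤ (maximalIdeal O).height + ((maximalIdeal A).map q).height := by gcongr
  exact WithBot.coe_le_coe.2 h10

/-- The dimension of the strict localization at a point different from the closed point is smaller. -/
theorem dim_lt {A B : Type u} [CommRing A] [IsLocalRing A] [IsNoetherianRing A] [CommRing B] [IsLocalRing B]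
    {τ : Spec (CommRingCat.of B) ⟶ Spec (CommRingCat.of A)} (hτ : IsStrictLoc τ)
    (h : τ (closedPoint B) ≠ closedPoint A) : ringKrullDim B + 1 ≤ ringKrullDim A := by
  obtain ⟨_, _, _, -⟩ := exists_specOf hτ _ rfl
  let y : Spec (CommRingCat.of A) := τ (closedPoint B)
  have h1 : ringKrullDim B = ringKrullDim ((Spec (CommRingCat.of A)).presheaf.stalk y) :=
    Groth.Agent.S0541.result ((Spec (CommRingCat.of A)).presheaf.stalk y) B
  have h2 : ringKrullDim ((Spec (CommRingCat.of A)).presheaf.stalk y) =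
      ringKrullDim (Localization.AtPrime (PrimeSpectrum.asIdeal y)) :=
    ringKrullDim_eq_of_ringEquiv (StructureSheaf.stalkIso (CommRingCat.of A) y).symm.toRingEquiv
  have h3 : PrimeSpectrum.asIdeal y < maximalIdeal A := by
    refine lt_of_le_of_ne (IsLocalRing.le_maximalIdeal (PrimeSpectrum.isPrime y).ne_top) fun h4 => h ?_
    exact PrimeSpectrum.ext h4
  have h4 := Ideal.height_add_one_le_of_lt_of_isPrime h3
  rw [h1, h2, IsLocalization.AtPrime.ringKrullDim_eq_height (PrimeSpectrum.asIdeal y),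
    ← IsLocalRing.maximalIdeal_height_eq_ringKrullDim]
  exact_mod_cast h4

end K157.AlgDim
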