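import Groth.Agent.Sga2lef.H107.FibreLoc
import Mathlib.AlgebraicGeometry.Morphisms.FlatDescent
import Mathlib.AlgebraicGeometry.PullbackCarrier

/-!
# Lifting generizations in a fibre to strict localizations of a base change
-/

set_option autoImplicit false
universe u

open CategoryTheory CategoryTheory.Limits AlgebraicGeometry IsLocalRing

namespace K157.AlgGen

open Groth.Agent.Etrest.StrictLoc Groth.Agent.Sga1.UlaSL

/-- `g : X ⟶ S`, `XT = X ×_S T`, `Spec A` a strict localization of `XT` over the strict localization `Spec O` of `T`.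
Generizations in the fibres of `g` lift to the closed fibre of `Spec A` over `Spec O`. -/
theorem exists_lift {X S T XT : Scheme.{u}} (g : X ⟶ S) (a : T ⟶ S) (p : XT ⟶ X) (gT : XT ⟶ T)
    (hP : IsPullback p gT g a) {O A : Type u} [CommRing O] [IsLocalRing O] [CommRing A] [IsLocalRing A]
    {τ : Spec (CommRingCat.of O) ⟶ T} (hτ : IsStrictLoc τ) {σ : Spec (CommRingCat.of A) ⟶ XT} (hσ : IsStrictLoc σ)
    (β : O →+* A) [IsLocalHom β] (hβ : spm β ≫ τ = σ ≫ gT)
    (x : Spec (CommRingCat.of A)) (hx : (maximalIdeal O).map β ≤ x.asIdeal)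
    (v : X) (hv : v ⤳ p (σ x)) (hv' : g v = g (p (σ x))) :
    ∃ z : Spec (CommRingCat.of A), z ⤳ x ∧ (maximalIdeal O).map β ≤ z.asIdeal ∧ p (σ z) = v := by
  obtain ⟨t, ht⟩ : ∃ t, τ (closedPoint O) = t := ⟨_, rfl⟩
  obtain ⟨_, ρ, hρ, hρ'⟩ := Groth.Agent.Sga2lef.H107.FibreLoc.exists_strictLoc_fiber gT hτ hσ β hβ t ht
  -- the fibre of `gT` over the fibre of `g`
  have h1 : IsPullback (gT.fiberι t) (gT.fiberToSpecResidueField t) gT (T.fromSpecResidueField t) :=
    IsPullback.of_hasPullback _ _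
  have h2 : IsPullback (gT.fiberι t ≫ p) (gT.fiberToSpecResidueField t) g (T.fromSpecResidueField t ≫ a) :=
    h1.paste_horiz hP
  have h3 : IsPullback (g.fiberι (a t)) (g.fiberToSpecResidueField (a t)) g (S.fromSpecResidueField (a t)) :=
    IsPullback.of_hasPullback _ _
  have h4 : T.fromSpecResidueField t ≫ a = Spec.map (a.residueFieldMap t) ≫ S.fromSpecResidueField (a t) :=
    (a.SpecMap_residueFieldMap_fromSpecResidueField t).symm
  let e : gT.fiber t ⟶ g.fiber (a t) := h3.lift (gT.fiberι t ≫ p)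
    (gT.fiberToSpecResidueField t ≫ Spec.map (a.residueFieldMap t)) (by rw [h2.w, h4, Category.assoc])
  have he : e ≫ g.fiberι (a t) = gT.fiberι t ≫ p := h3.lift_fst _ _ _
  have he' : e ≫ g.fiberToSpecResidueField (a t) = gT.fiberToSpecResidueField t ≫ Spec.map (a.residueFieldMap t) :=
    h3.lift_snd _ _ _
  have h5 : IsPullback e (gT.fiberToSpecResidueField t) (g.fiberToSpecResidueField (a t))
      (Spec.map (a.residueFieldMap t)) := by
    refine IsPullback.of_right (h₁₂ := g.fiberι (a t)) ?_ he' h3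
    rw [he, ← h4]
    exact h2
  have hfl : Flat (Spec.map (a.residueFieldMap t)) := by
    rw [Flat.SpecMap_iff]
    algebraize [(a.residueFieldMap t).hom]
    let _ : Field (S.residueField (a t)) := inferInstance
    exact RingHom.flat_algebraMap_iff.2 (inferInstanceAs (Module.Flat (S.residueField (a t)) (T.residueField t)))
  have hfe : Flat e := MorphismProperty.of_isPullback h5.flip hfl
  have hwe : WeaklyEtale ρ := weaklyEtale_of_isStrictLoc hρ
  have hff : Flat (ρ ≫ e) := inferInstance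
  -- the points
  obtain ⟨x', hx'⟩ : ∃ x' : Spec (CommRingCat.of (A ⧸ (maximalIdeal O).map β)),
      spm (Ideal.Quotient.mk ((maximalIdeal O).map β)) x' = x := by
    have h6 : x ∈ Set.range (PrimeSpectrum.comap (Ideal.Quotient.mk ((maximalIdeal O).map β))) := by
      rw [range_comap_of_surjective _ _ Ideal.Quotient.mk_surjective, Ideal.mk_ker]
      exact hx
    exact h6
  have hcl : spm β x = closedPoint O := by
    have h6 : maximalIdeal O ≤ (PrimeSpectrum.asIdeal x).comap β := Ideal.map_le_iff_le_comap.1 hx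
    have h7 : (PrimeSpectrum.asIdeal x).comap β ≠ ⊤ := (Ideal.IsPrime.comap β (hK := x.2)).ne_top
    exact PrimeSpectrum.ext ((IsLocalRing.maximalIdeal.isMaximal O).eq_of_le h7 h6).symm
  have hgx : g (p (σ x)) = a t := by
    rw [← Scheme.Hom.comp_apply, hP.w, Scheme.Hom.comp_apply, ← Scheme.Hom.comp_apply σ gT, ← hβ,
      Scheme.Hom.comp_apply, hcl, ht]
  obtain ⟨v', hv1⟩ : v ∈ Set.range (g.fiberι (a t)) := by
    rw [g.range_fiberι]
    change g v = a t
    rw [hv', hgx]
  have hsp : v' ⤳ (ρ ≫ e) x' := by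
    rw [← (g.fiberι (a t)).isEmbedding.toIsInducing.specializes_iff, hv1]
    have h6 : g.fiberι (a t) ((ρ ≫ e) x') = p (σ x) := by
      rw [← Scheme.Hom.comp_apply, Category.assoc, he, ← Category.assoc, hρ', Category.assoc, Scheme.Hom.comp_apply, hx',
        Scheme.Hom.comp_apply]
    rw [h6]
    exact hv
  obtain ⟨z', hz', hz''⟩ := Flat.generalizingMap (ρ ≫ e) hsp
  refine ⟨spm (Ideal.Quotient.mk ((maximalIdeal O).map β)) z', ?_, ?_, ?_⟩
  · rw [← hx']
    exact hz'.map (spm (Ideal.Quotient.mk ((maximalIdeal O).map β))).continuous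
  · intro b hb
    change Ideal.Quotient.mk _ b ∈ z'.asIdeal
    rw [Ideal.Quotient.eq_zero_iff_mem.2 hb]
    exact z'.asIdeal.zero_mem
  · have h6 : g.fiberι (a t) ((ρ ≫ e) z') = v := by rw [hz'', hv1]
    rw [← h6, ← Scheme.Hom.comp_apply (ρ ≫ e), Category.assoc, he, ← Category.assoc, hρ', Category.assoc,
      Scheme.Hom.comp_apply, Scheme.Hom.comp_apply]

end K157.AlgGen
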