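import Groth.Agent.EtAcyc.K157.AlgCase
import Groth.Agent.EtAcyc.K155.ConnInt
import Groth.Agent.Pi1.K722.Leaf
import Groth.Agent.Pi1.H408.PrincRestrict

/-!
# Full faithfulness of the restriction of principal covers to closed fibres, over normal bases

`ffnor`: for a good pair `(X, V)` over `S` locally of finite type over the integers, `FFnor n V.ι g`.
-/

set_option autoImplicit false
universe u

open CategoryTheory CategoryTheory.Limits AlgebraicGeometry IsLocalRing

namespace K157.AlgMain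

open Groth.Agent.Etrest.StrictLoc Groth.Agent.Sga1.UlaSL K868.Bc K157.AlgSit

variable {X S T Y₁ : Scheme.{u}} {g : X ⟶ S} {V : X.Opens} {a : T ⟶ S} {O : Type u} [CommRing O]
    [IsLocalRing O] {τ : Spec (CommRingCat.of O) ⟶ T} {c : Y₁ ⟶ X} {b₁ : Y₁ ⟶ Spec (CommRingCat.of O)}

/-- the case of a relative divisor with normal crossings -/
theorem caseB (H : Sit g V a τ c b₁) {n : ℕ} (hn : IsUnit (n : O))
    {A : Type u} [CommRing A] [IsLocalRing A] {σ : Spec (CommRingCat.of A) ⟶ Y₁} (hσ : IsStrictLoc σ)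
    (hcl : b₁ (σ (closedPoint A)) = closedPoint O)
    (W : X.Opens) (hW : c (σ (closedPoint A)) ∈ W) {r : ℕ} (φ : Fin r → Γ((W : Scheme.{u}), ⊤))
    (hφ : SGA1t.IsRelSNC (W.ι ≫ g) φ) (hWV : W.ι ⁻¹ᵁ V = SGA1t.compl φ)
    {XA : Scheme.{u}} (x : XA ⟶ V) (fA : XA ⟶ Spec (CommRingCat.of A)) (hXA : IsPullback x fA V.ι (σ ≫ c))
    (G : Type) [Group G] [Finite G] (hG : Nat.card G ∣ n) (P : FEt.Cat XA) (ρ : G →* Aut P)
    (hP : SGA1t.IsPrincipal G P ρ) :
    ClSurj (cf (P.hom ≫ fA ≫ σ ≫ b₁)) := by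
  have := H.sl.henselian
  have := H.sl.sepClosed
  let e : pullback c W.ι ⟶ Y₁ := pullback.fst c W.ι
  let c' : pullback c W.ι ⟶ W := pullback.snd c W.ι
  have h1 : IsPullback e c' c W.ι := IsPullback.of_hasPullback c W.ι
  have h2 : IsPullback c' (e ≫ b₁) (W.ι ≫ g) (τ ≫ a) := h1.flip.paste_vert H.sq
  have hr : Set.range σ ⊆ Set.range e := by
    rintro _ ⟨z, rfl⟩
    have h3 : σ (closedPoint A) ∈ Set.range e := by
      obtain ⟨w, hw, -⟩ := Scheme.exists_preimage_of_isPullback h1 (σ (closedPoint A)) ⟨_, hW⟩ rfl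
      exact ⟨w, hw⟩
    have h4 : σ z ⤳ σ (closedPoint A) := (IsLocalRing.specializes_closedPoint z).map σ.continuous
    exact h4.mem_open e.isOpenEmbedding.isOpen_range h3
  let σ' : Spec (CommRingCat.of A) ⟶ pullback c W.ι := IsOpenImmersion.lift e σ hr
  have hσ' : σ' ≫ e = σ := IsOpenImmersion.lift_fac e σ hr
  have hsl : IsStrictLoc σ' := IsStrictLoc.of_comp e (by rw [hσ']; exact hσ)
  have hx : ∀ V' : (W : Scheme.{u}).Opens, W.ι ⁻¹ᵁ V = V' →
      ∃ x' : XA ⟶ V', IsPullback x' fA V'.ι (σ' ≫ c') := by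
    rintro _ rfl
    have h5 : IsPullback (W.ι ∣_ V) (W.ι ⁻¹ᵁ V).ι V.ι W.ι := isPullback_morphismRestrict W.ι V
    have h6 : IsPullback x fA V.ι ((σ' ≫ c') ≫ W.ι) := by
      rw [Category.assoc, ← h1.w, ← Category.assoc, hσ']
      exact hXA
    refine ⟨h5.lift x (fA ≫ σ' ≫ c') (by rw [h6.w]; simp only [Category.assoc]), ?_⟩
    refine IsPullback.of_right (h₁₂ := W.ι ∣_ V) ?_ (h5.lift_snd _ _ _) h5
    rw [h5.lift_fst]
    exact h6
  obtain ⟨x', hx'⟩ := hx _ hWV
  have key := K722.Leaf.leaf n (W.ι ≫ g) φ hφ O A inferInstance inferInstance hn (τ ≫ a) c' (e ≫ b₁) h2 σ' hsl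
    (by rw [Scheme.Hom.comp_apply, ← Scheme.Hom.comp_apply σ' e, hσ']; exact hcl) x' fA hx' G hG P ρ hP
  have h7 : σ' ≫ e ≫ b₁ = σ ≫ b₁ := by rw [← Category.assoc, hσ']
  rw [h7] at key
  exact key

/-- **The induction.** -/
theorem main (H : Sit g V a τ c b₁) {n : ℕ} (hn : IsUnit (n : O)) (k : ℕ) :
    ∀ (A : Type u) [CommRing A] [IsLocalRing A] (σ : Spec (CommRingCat.of A) ⟶ Y₁) (_ : IsStrictLoc σ)
      (_ : b₁ (σ (closedPoint A)) = closedPoint O) (_ : ringKrullDim A < (k : WithBot ℕ∞))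
      ⦃XA : Scheme.{u}⦄ (x : XA ⟶ V) (fA : XA ⟶ Spec (CommRingCat.of A)) (_ : IsPullback x fA V.ι (σ ≫ c))
      (G : Type) [Group G] [Finite G] (_ : Nat.card G ∣ n) (P : FEt.Cat XA) (ρ : G →* Aut P)
      (_ : SGA1t.IsPrincipal G P ρ), ClSurj (cf (P.hom ≫ fA ≫ σ ≫ b₁)) := by
  induction k with
  | zero =>
    intro A _ _ σ hσ hcl hk
    have h1 : (0 : WithBot ℕ∞) ≤ ringKrullDim A := ringKrullDim_nonneg_of_nontrivial
    exact absurd (lt_of_le_of_lt h1 hk) (by norm_num)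
  | succ k ih =>
    intro A _ _ σ hσ hcl hk XA x fA hXA G _ _ hG P ρ hP
    obtain ⟨hNA, hGA, hDA, hIA⟩ := H.facts hσ
    have hHA : HenselianLocalRing A := hσ.henselian
    have hoi : IsOpenImmersion fA := MorphismProperty.of_isPullback hXA inferInstance
    have hfin : IsFinite P.hom := P.prop.1
    have het : Etale P.hom := P.prop.2
    have hrange (z : Spec (CommRingCat.of A)) : z ∈ Set.range fA ↔ c (σ z) ∈ V := by
      constructor
      · rintro ⟨w, rfl⟩
        rw [← Scheme.Hom.comp_apply, ← Scheme.Hom.comp_apply, ← hXA.w, Scheme.Hom.comp_apply]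
        exact (x w).2
      · intro hz
        obtain ⟨w, -, hw⟩ := Scheme.exists_preimage_of_isPullback hXA ⟨_, hz⟩ z rfl
        exact ⟨w, hw⟩
    have hFcl : IsClosed (cf (P.hom ≫ fA ≫ σ ≫ b₁)) :=
      (isClosed_singleton_closedPoint O).preimage (P.hom ≫ fA ≫ σ ≫ b₁).continuous
    by_cases hV : c (σ (closedPoint A)) ∈ V
    · -- the cover extends
      have h1 : Set.range fA = Set.univ := by
        ext z
        simp only [Set.mem_univ, iff_true]
        have h2 : z ⤳ closedPoint A := IsLocalRing.specializes_closedPoint z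
        exact h2.mem_open fA.isOpenEmbedding.isOpen_range ((hrange _).2 hV)
      have h2 : Surjective fA := ⟨Set.range_eq_univ.1 h1⟩
      have h3 : IsIso fA := isIso_of_isOpenImmersion_of_opensRange_eq_top fA (TopologicalSpace.Opens.ext h1)
      exact AlgCase.caseA fA P.hom _ hFcl
    rcases H.good.snc (c (σ (closedPoint A))) with h0 | ⟨W, hW, r, φ, hφ, hWV⟩ | ⟨y₀, y₁, h01, h1x, hne, hne', hg⟩
    · exact absurd h0 hV
    · exact caseB H hn hσ hcl W hW φ hφ hWV x fA hXA G hG P ρ hP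
    -- the chain
    have hg' : g y₁ = g (c (σ (closedPoint A))) := by
      have h2 : g y₀ ⤳ g y₁ := h01.map g.continuous
      have h3 : g y₁ ⤳ g (c (σ (closedPoint A))) := h1x.map g.continuous
      rw [hg] at h2
      exact (h3.antisymm h2).eq
    obtain ⟨z₁, hz₁, hz₁c, hz₁'⟩ := H.exists_gen hσ hcl (closedPoint A) hcl y₁ h1x hg'
    obtain ⟨z₀, hz₀, hz₀c, hz₀'⟩ := H.exists_gen hσ hcl z₁ hz₁c y₀ (by rw [hz₁']; exact h01)
      (by rw [hz₁', hg, hg'])
    obtain ⟨r, f, hfm, hiff, hdimf⟩ := H.exists_eqs hσ hcl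
    have hdim := hdimf z₀ z₁ hz₀c hz₀ (fun h => hne (by rw [← hz₀', ← hz₁', h]))
      (fun h => hne' (by rw [← hz₁', h]))
    -- density of the open part
    have hdense (z : Spec (CommRingCat.of A)) (hz : ∀ i, f i ∈ z.asIdeal) :
        ∃ y ∈ Set.range fA, (∀ i, f i ∈ y.asIdeal) ∧ y ⤳ z := by
      obtain ⟨v, hvV, hvz, hgv⟩ := H.good.dense (c (σ z))
      obtain ⟨y, hy, hy', hy''⟩ := H.exists_gen hσ hcl z ((hiff z).1 hz) v hvz hgv
      exact ⟨y, (hrange y).2 (by rw [hy'']; exact hvV), (hiff y).2 hy', hy⟩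
    have hXne : Nonempty XA := by
      obtain ⟨_, ⟨w, -⟩, -⟩ := hdense (closedPoint A) hfm
      exact ⟨w⟩
    have hXi : IsIntegral XA := AlgCase.isIntegral fA
    have hPN : TopologicalSpace.NoetherianSpace P.left := AlgCase.noetherianSpace fA P.hom
    have hXN : TopologicalSpace.NoetherianSpace XA := AlgCase.noetherianSpace fA (𝟙 XA)
    have hqc : QuasiCompact fA := inferInstance
    refine @AlgComp.clSurj_of_comp XA P.left hXi (AlgCase.isNormalScheme fA) P.hom hfin het hPN _ ?_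
    intro T₁ k' hk' hk'c hk'f hT₁ hT₁n hT₁s
    have hset : k' ⁻¹' cf (P.hom ≫ fA ≫ σ ≫ b₁) = {t : T₁ | ∀ i, f i ∈ (fA ((k' ≫ P.hom) t)).asIdeal} := by
      ext t
      refine Iff.trans ?_ (hiff _).symm
      change (P.hom ≫ fA ≫ σ ≫ b₁) (k' t) = closedPoint O ↔ _
      simp only [Scheme.Hom.comp_apply]
    rw [hset]
    have hTN : TopologicalSpace.NoetherianSpace T₁ := AlgCase.noetherianSpace fA (k' ≫ P.hom)
    refine Core.isPreconnected_of_local f fA (fun h => hV ((hrange _).1 h)) (fun z hz _ => hdense z hz) ?_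
      (k' ≫ P.hom) hT₁n ?_
    · -- the connectedness theorem
      intro N _ _ _ _ _ _ hinj
      have : FaithfulSMul A N := (faithfulSMul_iff_algebraMap_injective A N).2 hinj
      exact (K155.ConnInt.isConnected A N hGA hdim f hfm).isPreconnected
    · -- the local situations
      intro y hy hyne
      obtain ⟨B', _, _, τ₁, hτ₁, hτ₁c⟩ := exists_isStrictLoc (Spec (CommRingCat.of A)) y
      obtain ⟨φ', hφ'⟩ := Spec.map_surjective τ₁
      let _ : Algebra A B' := φ'.hom.toAlgebra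
      have hφ : spm (algebraMap A B') = τ₁ := hφ'
      have hwe : Algebra.WeaklyEtale A B' := by
        have h1 : WeaklyEtale (spm (algebraMap A B')) := by
          rw [hφ]
          exact weaklyEtale_of_isStrictLoc hτ₁
        exact (Groth.Agent.Proet.WEtaleScheme.weaklyEtale_Spec_iff A B').1 h1
      refine ⟨B', inferInstance, inferInstance, inferInstance, hwe, by rw [hφ]; exact hτ₁c, ?_⟩
      intro Q a' c'' hQ
      rw [hφ] at hQ
      have hweσ : WeaklyEtale σ := weaklyEtale_of_isStrictLoc hσ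
      let q : pullback fA τ₁ ⟶ XA := pullback.fst fA τ₁
      let fB : pullback fA τ₁ ⟶ Spec (CommRingCat.of B') := pullback.snd fA τ₁
      have hXB : IsPullback q fB fA τ₁ := IsPullback.of_hasPullback fA τ₁
      let P' : FEt.Cat (pullback fA τ₁) := (FEt.restrict q).obj P
      let pP : P'.left ⟶ P.left := pullback.fst P.hom q
      have hP1 : IsPullback pP P'.hom P.hom q := IsPullback.of_hasPullback P.hom q
      have hP2 : IsPullback pP (P'.hom ≫ fB) (P.hom ≫ fA) τ₁ := hP1.paste_vert hXB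
      have hyc : b₁ (σ y) = closedPoint O := (hiff y).1 hy
      have hdB : ringKrullDim B' < (k : WithBot ℕ∞) := by
        have h1 := AlgDim.dim_lt hτ₁ (by rw [hτ₁c]; exact hyne)
        have h2 : ringKrullDim B' + 1 < (k : WithBot ℕ∞) + 1 := lt_of_le_of_lt h1 (by exact_mod_cast hk)
        exact lt_of_add_lt_add_right h2
      have key := ih B' (τ₁ ≫ σ) (hτ₁.comp σ) (by rw [Scheme.Hom.comp_apply, hτ₁c]; exact hyc) hdB (q ≫ x) fB
        (by rw [Category.assoc]; exact hXB.paste_horiz hXA) G hG P' _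
        (Groth.Agent.Pi1.H408.PrincRestrict.isPrincipal_restrict q P ρ hP)
      have hQ2 : IsPullback a' c'' (k' ≫ P.hom ≫ fA) τ₁ := by
        rw [← Category.assoc]
        exact hQ
      let e : Q ⟶ P'.left := hP2.lift (a' ≫ k') c'' (by rw [Category.assoc, hQ2.w])
      have he : e ≫ pP = a' ≫ k' := hP2.lift_fst _ _ _
      have he' : e ≫ P'.hom ≫ fB = c'' := hP2.lift_snd _ _ _
      have hQ3 : IsPullback a' e k' pP := by
        refine IsPullback.of_bot (v₂₁ := P'.hom ≫ fB) ?_ he.symm hP2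
        rw [he']
        exact hQ2
      have hcik : IsClosedImmersion k' := IsClosedImmersion.of_isPreimmersion k' hk'c
      have hoie : IsOpenImmersion e := MorphismProperty.of_isPullback hQ3 hk'
      have hcie : IsClosedImmersion e := MorphismProperty.of_isPullback hQ3 hcik
      have key2 := AlgTop.clSurj_restrict e e.isOpenEmbedding e.isClosedEmbedding.isClosed_range _ key
      have hset2 : e ⁻¹' cf (P'.hom ≫ fB ≫ (τ₁ ≫ σ) ≫ b₁) =
          {z : Q | ∀ i, f i ∈ (fA ((k' ≫ P.hom) (a' z))).asIdeal} := by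
        ext z
        refine Iff.trans ?_ (hiff _).symm
        change (P'.hom ≫ fB ≫ (τ₁ ≫ σ) ≫ b₁) (e z) = closedPoint O ↔ _
        have h1 : (P'.hom ≫ fB ≫ (τ₁ ≫ σ) ≫ b₁) (e z) = b₁ (σ (fA ((k' ≫ P.hom) (a' z)))) := by
          have h3 : a' ≫ (k' ≫ P.hom) ≫ fA ≫ σ ≫ b₁ = (a' ≫ (k' ≫ P.hom) ≫ fA) ≫ σ ≫ b₁ := by
            simp only [Category.assoc]
          have h4 : e ≫ P'.hom ≫ fB ≫ (τ₁ ≫ σ) ≫ b₁ = a' ≫ (k' ≫ P.hom) ≫ fA ≫ σ ≫ b₁ := by
            calc e ≫ P'.hom ≫ fB ≫ (τ₁ ≫ σ) ≫ b₁ = (e ≫ P'.hom ≫ fB) ≫ τ₁ ≫ σ ≫ b₁ := by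
                  simp only [Category.assoc]
              _ = c'' ≫ τ₁ ≫ σ ≫ b₁ := by rw [he']
              _ = (c'' ≫ τ₁) ≫ σ ≫ b₁ := (Category.assoc _ _ _).symm
              _ = (a' ≫ (k' ≫ P.hom) ≫ fA) ≫ σ ≫ b₁ := by rw [hQ.w]
              _ = _ := h3.symm
          have h5 := congrArg (fun m : Q ⟶ Spec (CommRingCat.of O) => m z) h4
          simpa only [Scheme.Hom.comp_apply] using h5
        rw [h1]
      rw [← hset2]
      exact key2

/-- **Full faithfulness of the restriction of principal covers to the closed fibres** for good pairs, over normal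
bases. -/
theorem ffnor (n : ℕ) (g : X ⟶ S) (V : X.Opens) (hS : FTZ S) (h : GoodPair g V) : FFnor n V.ι g := by
  intro O A _ _ _ _ hn T hT hTn a ha τ hτ Y₁ c b₁ hY σ hσ hcl XA x fA hXA G _ _ hG P ρ hP
  have H : Sit g V a τ c b₁ := ⟨hS, h, hT, hTn, ha, hτ, hY⟩
  obtain ⟨hNA, -⟩ := H.facts hσ
  obtain ⟨k, hk⟩ : ∃ k : ℕ, ringKrullDim A < (k : WithBot ℕ∞) := by
    have h1 : ringKrullDim A < ⊤ := ringKrullDim_lt_top
    obtain ⟨r, _, -, -, hr⟩ := Groth.Agent.Ega41.CohenGabber0.exists_sop A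
    exact ⟨r + 1, by rw [hr]; exact_mod_cast Nat.lt_succ_self r⟩
  exact main H hn k A σ hσ hcl hk x fA hXA G hG P ρ hP

end K157.AlgMain
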