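import Groth.Agent.EtAcyc.K157.AlgDim
import Groth.Agent.EtAcyc.K157.AlgGen
import Groth.Agent.Ega41.CohenGabber0

/-!
# The local situation for a good pair
-/

set_option autoImplicit false
universe u

open CategoryTheory CategoryTheory.Limits AlgebraicGeometry IsLocalRing

namespace K157.AlgSit

open Groth.Agent.Etrest.StrictLoc Groth.Agent.Sga1.UlaSL K868.Bc

/-- The global situation. -/
structure Sit {X S T Y₁ : Scheme.{u}} (g : X ⟶ S) (V : X.Opens) (a : T ⟶ S) {O : Type u} [CommRing O]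
    [IsLocalRing O] (τ : Spec (CommRingCat.of O) ⟶ T) (c : Y₁ ⟶ X) (b₁ : Y₁ ⟶ Spec (CommRingCat.of O)) : Prop where
  ftz : FTZ S
  good : GoodPair g V
  int : IsIntegral T
  nor : ∀ z : T, IsIntegrallyClosed (T.presheaf.stalk z)
  lft : LocallyOfFiniteType a
  sl : IsStrictLoc τ
  sq : IsPullback c b₁ g (τ ≫ a)

variable {X S T Y₁ : Scheme.{u}} {g : X ⟶ S} {V : X.Opens} {a : T ⟶ S} {O : Type u} [CommRing O]
    [IsLocalRing O] {τ : Spec (CommRingCat.of O) ⟶ T} {c : Y₁ ⟶ X} {b₁ : Y₁ ⟶ Spec (CommRingCat.of O)}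
    (H : Sit g V a τ c b₁)

include H

theorem Sit.norT (z : T) : IsDomain (T.presheaf.stalk z) ∧ IsIntegrallyClosed (T.presheaf.stalk z) := by
  have := H.int
  exact ⟨inferInstance, H.nor z⟩

theorem Sit.flat : Flat g := by
  rw [HasRingHomProperty.iff_appLE (P := @Flat)]
  intro W U e
  exact (H.good.normal U.1 W.1 U.2 W.2 e).1

theorem Sit.flatb : Flat b₁ := by
  have := H.flat
  exact MorphismProperty.of_isPullback H.sq this

/-- `Y₁` as a base change of `X ×_S T`. -/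
theorem Sit.exists_i : ∃ i : Y₁ ⟶ pullback g a, IsPullback i b₁ (pullback.snd g a) τ ∧ i ≫ pullback.fst g a = c := by
  refine ⟨pullback.lift c (b₁ ≫ τ) (by rw [H.sq.w, Category.assoc]), ?_, pullback.lift_fst _ _ _⟩
  refine IsPullback.of_right (h₁₂ := pullback.fst g a) ?_ (pullback.lift_snd _ _ _) (IsPullback.of_hasPullback g a)
  rw [pullback.lift_fst]
  exact H.sq

variable {A : Type u} [CommRing A] [IsLocalRing A] {σ : Spec (CommRingCat.of A) ⟶ Y₁} (hσ : IsStrictLoc σ)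

include hσ

theorem Sit.exists_σ : ∃ σT : Spec (CommRingCat.of A) ⟶ pullback g a, IsStrictLoc σT ∧
    σT ≫ pullback.fst g a = σ ≫ c ∧ σT ≫ pullback.snd g a = σ ≫ b₁ ≫ τ := by
  obtain ⟨i, hi, hi'⟩ := H.exists_i
  have h1 : WeaklyEtale τ := weaklyEtale_of_isStrictLoc H.sl
  have h2 : WeaklyEtale i := MorphismProperty.of_isPullback hi.flip h1
  refine ⟨σ ≫ i, hσ.comp i, ?_, ?_⟩
  · rw [Category.assoc, hi']
  · rw [Category.assoc, hi.w]

theorem Sit.facts : IsNoetherianRing A ∧ CAlg.IsGRing A ∧ IsDomain A ∧ IsIntegrallyClosed A := by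
  obtain ⟨σT, h1, -, -⟩ := H.exists_σ hσ
  have h3 := H.good.fp
  have h4 := H.lft
  have h5 : FTZ (pullback g a) := AlgPt.ftz_of_lft (pullback.fst g a) (AlgPt.ftz_of_lft g H.ftz)
  have h6 := AlgPt.isNormal h1 (AlgPt.isNormal_pullback H.ftz g a H.good.normal H.norT _)
  exact ⟨AlgPt.isNoetherianRing h5 h1, AlgPt.isGRing h5 h1, h6.1, h6.2⟩

omit [CommRing A] [IsLocalRing A] hσ in
theorem Sit.noeth_O : IsNoetherianRing O := by
  have h4 := H.lft
  exact AlgPt.isNoetherianRing (AlgPt.ftz_of_lft a H.ftz) H.sl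

theorem Sit.flatσ : Flat (σ ≫ b₁) := by
  have h1 : WeaklyEtale σ := weaklyEtale_of_isStrictLoc hσ
  have h2 := H.flatb
  infer_instance

/-- generizations in the closed fibre. -/
theorem Sit.exists_gen (hcl : b₁ (σ (closedPoint A)) = closedPoint O) (x : Spec (CommRingCat.of A))
    (hx : b₁ (σ x) = closedPoint O) (v : X) (hv : v ⤳ c (σ x)) (hv' : g v = g (c (σ x))) :
    ∃ z : Spec (CommRingCat.of A), z ⤳ x ∧ b₁ (σ z) = closedPoint O ∧ c (σ z) = v := by
  obtain ⟨σT, h1, h2, h3⟩ := H.exists_σ hσ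
  obtain ⟨β', hβ'⟩ := Spec.map_surjective (σ ≫ b₁)
  obtain ⟨β, rfl⟩ : ∃ β : O →+* A, β' = CommRingCat.ofHom β := ⟨β'.hom, rfl⟩
  have hβ : spm β = σ ≫ b₁ := hβ'
  have hiff (z : Spec (CommRingCat.of A)) : b₁ (σ z) = closedPoint O ↔ (maximalIdeal O).map β ≤ z.asIdeal := by
    rw [← Scheme.Hom.comp_apply, ← hβ, Ideal.map_le_iff_le_comap]
    constructor
    · intro h
      exact (congrArg PrimeSpectrum.asIdeal h).ge
    · intro h
      exact PrimeSpectrum.ext ((IsLocalRing.maximalIdeal.isMaximal O).eq_of_le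
        (Ideal.IsPrime.comap β (hK := z.2)).ne_top h).symm
  have hl : IsLocalHom β := by
    have h4 := (hiff (closedPoint A)).1 hcl
    exact ((IsLocalRing.local_hom_TFAE β).out 0 2 rfl rfl).2 h4
  obtain ⟨z, hz1, hz2, hz3⟩ := AlgGen.exists_lift g a (pullback.fst g a) (pullback.snd g a)
    (IsPullback.of_hasPullback g a) H.sl h1 β (by rw [hβ, h3, Category.assoc]) x ((hiff x).1 hx) v
    (by rw [← Scheme.Hom.comp_apply, h2]; exact hv) (by rw [← Scheme.Hom.comp_apply σT, h2]; exact hv')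
  refine ⟨z, hz1, (hiff z).2 hz2, ?_⟩
  rw [← hz3, ← Scheme.Hom.comp_apply, ← Scheme.Hom.comp_apply, h2]

/-- Equations of the closed fibre. -/
theorem Sit.exists_eqs (hcl : b₁ (σ (closedPoint A)) = closedPoint O) :
    ∃ (r : ℕ) (f : Fin r → A), (∀ i, f i ∈ maximalIdeal A) ∧
      (∀ x : Spec (CommRingCat.of A), (∀ i, f i ∈ x.asIdeal) ↔ b₁ (σ x) = closedPoint O) ∧
      ∀ z₀ z₁ : Spec (CommRingCat.of A), b₁ (σ z₀) = closedPoint O → z₀ ⤳ z₁ → z₀ ≠ z₁ → z₁ ≠ closedPoint A →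
        ((r + 2 : ℕ) : WithBot ℕ∞) ≤ ringKrullDim A := by
  have hNO := H.noeth_O
  obtain ⟨hNA, -⟩ := H.facts hσ
  have hfl := H.flatσ hσ
  obtain ⟨β', hβ'⟩ := Spec.map_surjective (σ ≫ b₁)
  obtain ⟨β, rfl⟩ : ∃ β : O →+* A, β' = CommRingCat.ofHom β := ⟨β'.hom, rfl⟩
  have hβ : spm β = σ ≫ b₁ := hβ'
  have hiff (z : Spec (CommRingCat.of A)) : b₁ (σ z) = closedPoint O ↔ (maximalIdeal O).map β ≤ z.asIdeal := by
    rw [← Scheme.Hom.comp_apply, ← hβ, Ideal.map_le_iff_le_comap]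
    constructor
    · intro h
      exact (congrArg PrimeSpectrum.asIdeal h).ge
    · intro h
      exact PrimeSpectrum.ext ((IsLocalRing.maximalIdeal.isMaximal O).eq_of_le
        (Ideal.IsPrime.comap β (hK := z.2)).ne_top h).symm
  have hl : IsLocalHom β := by
    have h4 := (hiff (closedPoint A)).1 hcl
    exact ((IsLocalRing.local_hom_TFAE β).out 0 2 rfl rfl).2 h4
  obtain ⟨r, t, ht, hrad, hr⟩ := Groth.Agent.Ega41.CohenGabber0.exists_sop O
  refine ⟨r, fun i => β (t i), fun i => ?_, fun x => ?_, fun z₀ z₁ h0 h1 h2 h3 => ?_⟩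
  · exact (IsLocalRing.mem_maximalIdeal _).2 fun h => (IsLocalRing.mem_maximalIdeal _).1 (ht i) (isUnit_of_map_unit β _ h)
  · rw [hiff, Ideal.map_le_iff_le_comap]
    constructor
    · intro h
      rw [← hrad]
      have := Ideal.IsPrime.comap β (hK := x.2)
      refine (Ideal.IsPrime.radical_le_iff this).2 (Ideal.span_le.2 ?_)
      rintro _ ⟨i, rfl⟩
      exact h i
    · intro h i
      exact h (ht i)
  · let _ : Algebra O A := β.toAlgebra
    have h5 : Module.Flat O A := by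
      rw [← hβ, Flat.SpecMap_iff] at hfl
      exact hfl
    have h6 : IsLocalHom (algebraMap O A) := hl
    have h7 : @LT.lt (PrimeSpectrum A) _ z₀ z₁ := lt_of_le_of_ne ((PrimeSpectrum.le_iff_specializes _ _).2 h1) h2
    have h8 : @LT.lt (PrimeSpectrum A) _ z₁ (closedPoint A) := by
      refine lt_of_le_of_ne ?_ h3
      exact IsLocalRing.le_maximalIdeal (PrimeSpectrum.isPrime z₁).ne_top
    have h9 := AlgDim.dim_ge (O := O) (A := A) z₀ z₁ ((hiff z₀).1 h0) h7 h8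
    rw [hr] at h9
    exact_mod_cast h9

end K157.AlgSit
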