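import Groth.Agent.Pi1.K868.BcTop
import Groth.Agent.Pi1.K868.ConnComp

/-!
# Clopen subsets of a subset and connected components
-/

set_option autoImplicit false

namespace K157.AlgTop

open K868.Bc

/-- If the traces of all connected components are connected, all clopen subsets lift. -/
theorem clSurj_of_components {P : Type*} [TopologicalSpace P] [TopologicalSpace.NoetherianSpace P] (F : Set P)
    (h : ∀ x ∈ F, _root_.IsPreconnected (connectedComponent x ∩ F)) : ClSurj F := by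
  intro D hD hDc
  obtain ⟨⟨U₁, hU₁, hU₁'⟩, ⟨U₂, hU₂, hU₂'⟩⟩ := (isClopen_preimage_iff hD).1 hDc
  have key : ∀ x ∈ D, connectedComponent x ∩ F ⊆ D := by
    intro x hx y hy
    by_contra hyD
    have hxU : x ∈ U₁ ∩ F := by rw [hU₁']; exact hx
    have hyU : y ∈ U₂ ∩ F := by rw [hU₂']; exact ⟨hy.2, hyD⟩
    obtain ⟨z, hz, hz'⟩ := h x (hD hx) U₁ U₂ hU₁ hU₂ (fun z hz => by
      by_cases hzD : z ∈ D
      · rw [← hU₁'] at hzD
        exact Or.inl hzD.1
      · have : z ∈ F \ D := ⟨hz.2, hzD⟩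
        rw [← hU₂'] at this
        exact Or.inr this.1) ⟨x, ⟨mem_connectedComponent, hD hx⟩, hxU.1⟩ ⟨y, hy, hyU.1⟩
    have h1 : z ∈ D := by
      rw [← hU₁']
      exact ⟨hz'.1, hz.2⟩
    have h2 : z ∈ F \ D := by
      rw [← hU₂']
      exact ⟨hz'.2, hz.2⟩
    exact h2.2 h1
  refine ⟨⋃ x ∈ D, connectedComponent x, ⟨?_, isOpen_biUnion fun x _ => K868.ConnComp.isOpen_cc x⟩, ?_⟩
  · rw [← isOpen_compl_iff]
    have h1 : (⋃ x ∈ D, connectedComponent x)ᶜ = ⋃ y ∈ (⋃ x ∈ D, connectedComponent x)ᶜ, connectedComponent y := by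
      ext y
      constructor
      · intro hy
        exact Set.mem_biUnion hy mem_connectedComponent
      · intro hy
        obtain ⟨z, hz, hzy⟩ := Set.mem_iUnion₂.1 hy
        intro hy'
        obtain ⟨x, hx, hxy⟩ := Set.mem_iUnion₂.1 hy'
        refine hz (Set.mem_biUnion hx ?_)
        rw [connectedComponent_eq hxy, ← connectedComponent_eq hzy]
        exact mem_connectedComponent
    rw [h1]
    exact isOpen_biUnion fun x _ => K868.ConnComp.isOpen_cc x
  · ext y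
    constructor
    · rintro ⟨hy, hyF⟩
      obtain ⟨x, hx, hxy⟩ := Set.mem_iUnion₂.1 hy
      exact key x hx ⟨hxy, hyF⟩
    · intro hy
      exact ⟨Set.mem_biUnion hy mem_connectedComponent, hD hy⟩

/-- Restriction to a clopen subset. -/
theorem clSurj_restrict {P Q : Type*} [TopologicalSpace P] [TopologicalSpace Q] (e : Q → P)
    (he : Topology.IsOpenEmbedding e) (hr : IsClosed (Set.range e)) (W : Set P) (h : ClSurj W) : ClSurj (e ⁻¹' W) := by
  intro D hD hDc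
  obtain ⟨⟨U₁, hU₁, hU₁'⟩, ⟨U₂, hU₂, hU₂'⟩⟩ := (isClopen_preimage_iff hD).1 hDc
  have hDW : e '' D ⊆ W := by
    rintro _ ⟨d, hd, rfl⟩
    exact hD hd
  suffices hs : IsClopen ((Subtype.val : W → P) ⁻¹' (e '' D)) by
    obtain ⟨C, hC, hCD⟩ := h (e '' D) hDW hs
    refine ⟨e ⁻¹' C, hC.preimage he.continuous, ?_⟩
    rw [← Set.preimage_inter, hCD, Set.preimage_image_eq _ he.injective]
  refine (isClopen_preimage_iff hDW).2 ⟨⟨e '' U₁, he.isOpenMap _ hU₁, ?_⟩,
    ⟨e '' U₂ ∪ (Set.range e)ᶜ, (he.isOpenMap _ hU₂).union hr.isOpen_compl, ?_⟩⟩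
  · ext x
    constructor
    · rintro ⟨⟨u, hu, rfl⟩, hx⟩
      refine ⟨u, ?_, rfl⟩
      rw [← hU₁']
      exact ⟨hu, hx⟩
    · rintro ⟨u, hu, rfl⟩
      rw [← hU₁'] at hu
      exact ⟨⟨u, hu.1, rfl⟩, hu.2⟩
  · ext x
    constructor
    · rintro ⟨hx | hx, hxW⟩
      · obtain ⟨u, hu, rfl⟩ := hx
        refine ⟨hxW, ?_⟩
        rintro ⟨d, hd, hde⟩
        obtain rfl := he.injective hde
        have : d ∈ e ⁻¹' W \ D := by
          rw [← hU₂']
          exact ⟨hu, hxW⟩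
        exact this.2 hd
      · refine ⟨hxW, ?_⟩
        rintro ⟨d, hd, rfl⟩
        exact hx ⟨d, rfl⟩
    · rintro ⟨hxW, hx⟩
      refine ⟨?_, hxW⟩
      by_cases hxr : x ∈ Set.range e
      · obtain ⟨q, rfl⟩ := hxr
        have : q ∈ e ⁻¹' W \ D := ⟨hxW, fun hq => hx ⟨q, hq, rfl⟩⟩
        rw [← hU₂'] at this
        exact Or.inl ⟨q, this.1, rfl⟩
      · exact Or.inr hxr

end K157.AlgTop
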