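import Groth.Agent.Pi1.K157.Lift
import Groth.Agent.Pi1.H391.Descend
import Groth.Agent.Sga1.SigmaFinite
import Groth.Agent.Ega2.SigmaMap

/-!
# Sections of principal covers along a finite closed covering family

`hasLift_of_cech`: `y i : Z i ⟶ Y` a finite family of universally closed morphisms, jointly surjective, with
connected double and nonempty triple fibre products.  A principal cover of `Y` with sections over all `Z i` has a
section.
-/

set_option autoImplicit false
universe u v

open CategoryTheory CategoryTheory.Limits AlgebraicGeometry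

namespace K157.Cech

open K157.Lift

/-- The coproduct of a finite family of universally closed morphisms is universally closed. -/
theorem universallyClosed_sigmaDesc {S : Scheme.{u}} {ι : Type u} [Finite ι] {M : ι → Scheme.{u}}
    (f : ∀ j, M j ⟶ S) (h : ∀ j, UniversallyClosed (f j)) : UniversallyClosed (Sigma.desc f) := by
  have h1 : Sigma.desc f = Limits.Sigma.map f ≫ Sigma.desc (fun _ : ι ↦ 𝟙 S) := by
    refine Sigma.hom_ext _ _ fun i ↦ ?_
    simp
  have h2 : UniversallyClosed (Limits.Sigma.map f) :=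
    Groth.Agent.Ega2.SigmaMap.sigmaMap_of_isZariskiLocalAtTarget (@UniversallyClosed) f h
  have h3 : IsFinite (Sigma.desc (fun _ : ι ↦ 𝟙 S)) := Groth.Agent.Sga1.SigmaFinite.isFinite_sigmaDesc _
  rw [h1]
  infer_instance

/-- Descent of a section along a finite jointly surjective family of universally closed morphisms. -/
theorem hasLift_of_family {Y : Scheme.{u}} {ι : Type u} [Finite ι] {Z : ι → Scheme.{u}} (y : ∀ i, Z i ⟶ Y)
    (hy : ∀ i, UniversallyClosed (y i)) (hs : ∀ x : Y, ∃ i, x ∈ Set.range (y i)) (P : FEt.Cat Y)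
    (s : ∀ i, Z i ⟶ P.left) (hsy : ∀ i, s i ≫ P.hom = y i)
    (hc : ∀ i j, pullback.fst (y i) (y j) ≫ s i = pullback.snd (y i) (y j) ≫ s j) : HasLift P (𝟙 Y) := by
  have hP1 : IsFinite P.hom := P.prop.1
  have hP2 : Etale P.hom := P.prop.2
  let f : ∐ Z ⟶ Y := Sigma.desc y
  have hf1 : UniversallyClosed f := universallyClosed_sigmaDesc y hy
  have hf2 : Surjective f := by
    refine ⟨fun x => ?_⟩
    obtain ⟨i, z, hz⟩ := hs x
    refine ⟨Sigma.ι Z i z, ?_⟩
    rw [← Scheme.Hom.comp_apply, Sigma.ι_desc, hz]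
  let σ : ∐ Z ⟶ P.left := Sigma.desc s
  have hσ : σ ≫ P.hom = f := by
    refine Sigma.hom_ext _ _ fun i ↦ ?_
    rw [Sigma.ι_desc_assoc, Sigma.ι_desc, hsy]
  obtain ⟨a, ha, -⟩ := Groth.Agent.Pi1.H391.Descend.exists_section (z := P.hom) (f := f) σ hσ (by
    -- the two pullbacks agree
    let t : ∐ (fun p : ι × ι => pullback (y p.1) (y p.2)) ⟶ pullback f f :=
      Sigma.desc fun p => pullback.map (y p.1) (y p.2) f f (Sigma.ι Z p.1) (Sigma.ι Z p.2) (𝟙 Y)
        (by rw [Category.comp_id, Sigma.ι_desc]) (by rw [Category.comp_id, Sigma.ι_desc])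
    have ht : Function.Surjective t := by
      intro z
      let q : Spec ((pullback f f).residueField z) ⟶ pullback f f := (pullback f f).fromSpecResidueField z
      have hq (w : Spec ((pullback f f).residueField z)) : q w = z := by
        have h1 : w ∈ Set.univ := trivial
        have h2 := (pullback f f).range_fromSpecResidueField z
        have h3 : q w ∈ Set.range q := ⟨w, rfl⟩
        rw [h2] at h3
        exact h3
      have key : ∀ (m : pullback f f ⟶ ∐ Z), ∃ (i : ι) (l : Spec ((pullback f f).residueField z) ⟶ Z i),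
          l ≫ Sigma.ι Z i = q ≫ m := by
        intro m
        obtain ⟨i, x, hx⟩ : ∃ (i : ι) (x : Z i), Sigma.ι Z i x = m z := by
          obtain ⟨⟨i, x⟩, hx⟩ := (sigmaMk Z).surjective (m z)
          exact ⟨i, x, (sigmaMk_mk Z i x).symm.trans hx⟩
        refine ⟨i, IsOpenImmersion.lift (Sigma.ι Z i) (q ≫ m) ?_, IsOpenImmersion.lift_fac _ _ _⟩
        rintro _ ⟨w, rfl⟩
        rw [Scheme.Hom.comp_apply, hq]
        exact ⟨x, hx⟩
      obtain ⟨i, l, hl⟩ := key (pullback.fst f f)
      obtain ⟨j, m, hm⟩ := key (pullback.snd f f)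
      have hlm : l ≫ y i = m ≫ y j := by
        have e1 : l ≫ y i = q ≫ pullback.fst f f ≫ f := by
          rw [← reassoc_of% hl, Sigma.ι_desc]
        have e2 : m ≫ y j = q ≫ pullback.snd f f ≫ f := by
          rw [← reassoc_of% hm, Sigma.ι_desc]
        rw [e1, e2, pullback.condition]
      let c : Spec ((pullback f f).residueField z) ⟶ pullback (y i) (y j) := pullback.lift l m hlm
      have hct : (c ≫ Sigma.ι (fun p : ι × ι => pullback (y p.1) (y p.2)) (i, j)) ≫ t = q := by
        rw [Category.assoc, Sigma.ι_desc]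
        apply pullback.hom_ext
        · rw [Category.assoc, pullback.lift_fst, pullback.lift_fst_assoc, hl]
        · rw [Category.assoc, pullback.lift_snd, pullback.lift_snd_assoc, hm]
      obtain ⟨w⟩ : Nonempty ↥(Spec ((pullback f f).residueField z)) :=
        ⟨(⟨⊥, Ideal.isPrime_bot⟩ : PrimeSpectrum _)⟩
      refine ⟨(c ≫ Sigma.ι (fun p : ι × ι => pullback (y p.1) (y p.2)) (i, j)) w, ?_⟩
      rw [← Scheme.Hom.comp_apply, hct, hq]
    refine Groth.Agent.Pi1A.Agree.eq_of_agree P.hom _ _ (by
      rw [Category.assoc, Category.assoc, hσ, pullback.condition]) t ?_ fun V _ hV' => ?_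
    · refine Sigma.hom_ext _ _ fun p ↦ ?_
      obtain ⟨i, j⟩ := p
      rw [Sigma.ι_desc_assoc, Sigma.ι_desc_assoc, pullback.lift_fst_assoc, pullback.lift_snd_assoc,
        Category.assoc, Category.assoc, Sigma.ι_desc, Sigma.ι_desc]
      exact hc i j
    · apply TopologicalSpace.Opens.ext
      exact Set.eq_univ_iff_forall.2 fun z => hV' (ht z))
  exact ⟨a, ha⟩

/-- **Čech lemma**. -/
theorem hasLift_of_cech {Y : Scheme.{u}} {ι : Type u} [Finite ι] {Z : ι → Scheme.{u}} (y : ∀ i, Z i ⟶ Y)
    (hy : ∀ i, UniversallyClosed (y i)) (hs : ∀ x : Y, ∃ i, x ∈ Set.range (y i))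
    (h2 : ∀ i j, ConnectedSpace ↥(pullback (y i) (y j)))
    (h3 : ∀ i j k, Nonempty ↥(pullback (pullback.fst (y i) (y j) ≫ y i) (y k)))
    {G : Type v} [Group G] (P : FEt.Cat Y) (ρ : G →* Aut P) (hP : SGA1t.IsPrincipal G P ρ)
    (hl : ∀ i, HasLift P (y i)) : HasLift P (𝟙 Y) := by
  choose s hs' using hl
  rcases isEmpty_or_nonempty ι with he | ⟨⟨i₀⟩⟩
  · exact hasLift_of_family y hy hs P s hs' (fun i => (he.false i).elim)
  have h4 : ∀ i, ∃ γ : G, pullback.fst (y i₀) (y i) ≫ s i₀ =
      (pullback.snd (y i₀) (y i) ≫ s i) ≫ (ρ γ).hom.left := fun i => by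
    have := h2 i₀ i
    exact exists_translate hP (a := pullback.snd (y i₀) (y i) ≫ s i) (b := pullback.fst (y i₀) (y i) ≫ s i₀) (by
      rw [Category.assoc, Category.assoc, hs', hs', pullback.condition])
  choose γ hγ using h4
  refine hasLift_of_family y hy hs P (fun i => s i ≫ (ρ (γ i)).hom.left) (fun i => ?_) fun i j => ?_
  · rw [Category.assoc]
    exact (congrArg (s i ≫ ·) (MorphismProperty.Over.w (ρ (γ i)).hom)).trans (hs' i)
  · have hcn := h2 i j
    have hne := h3 i j i₀
    have hw (i : ι) : (ρ (γ i)).hom.left ≫ P.hom = P.hom := MorphismProperty.Over.w (ρ (γ i)).hom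
    let p₁ := pullback.fst (y i) (y j)
    let p₂ := pullback.snd (y i) (y j)
    let t := pullback.fst (p₁ ≫ y i) (y i₀)
    let z := pullback.snd (p₁ ≫ y i) (y i₀)
    have htz : t ≫ p₁ ≫ y i = z ≫ y i₀ := pullback.condition
    have key : ∀ (k : ι) (l : pullback (p₁ ≫ y i) (y i₀) ⟶ Z k) (hl : z ≫ y i₀ = l ≫ y k),
        l ≫ s k ≫ (ρ (γ k)).hom.left = z ≫ s i₀ := by
      intro k l hl
      have e := congrArg (pullback.lift z l hl ≫ ·) (hγ k)
      simp only [Category.assoc, pullback.lift_fst_assoc, pullback.lift_snd_assoc] at e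
      exact e.symm
    refine eq_of_agree P (by
      rw [Category.assoc, Category.assoc, Category.assoc, Category.assoc, hw, hw, hs', hs', pullback.condition])
      t ?_
    refine (?_ : t ≫ p₁ ≫ s i ≫ (ρ (γ i)).hom.left = z ≫ s i₀).trans
      (?_ : t ≫ p₂ ≫ s j ≫ (ρ (γ j)).hom.left = z ≫ s i₀).symm
    · rw [← Category.assoc]
      exact key i (t ≫ p₁) (by rw [Category.assoc, htz])
    · rw [← Category.assoc]
      exact key j (t ≫ p₂) (by
        rw [Category.assoc, ← htz]
        exact congrArg (t ≫ ·) pullback.condition)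

end K157.Cech
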