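import Groth.Agent.Etrest.StrictLoc
import Groth.Prelude.Def_SGA1t
import Mathlib.RingTheory.FiniteType

/-!
# Clopen subsets of covers and closed fibres: definitions (S17215)

* `CInj g`, `CSur g`, `CBij g`: pull-back of clopen subsets along `g` is injective, surjective, bijective.
* `ClFor n f b A`: (`f : X ⟶ Y`, `b : Y ⟶ S`, `A` strictly henselian, `n` a unit in `A`) for all `t : Spec A ⟶ S`, all
  strict localizations `Spec B` of `Y ×_S Spec A` over the closed point of `Spec A` and all principal covers `T` of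
  `X ×_Y Spec B` with group of order dividing `n`, the clopen subsets of `T` and of its fibre over the closed point of
  `Spec A` coincide.
* `Cl n f b`: the same for all `A`; `ClN n f b`: for `A` a strict localization of an `S`-scheme locally of finite type.
-/

set_option autoImplicit false
universe u

open CategoryTheory CategoryTheory.Limits AlgebraicGeometry IsLocalRing

namespace K157.ClDef

open Groth.Agent.Etrest.StrictLoc

/-- Clopen subsets are detected after pull-back. -/
def CInj {T' T : Scheme.{u}} (g : T' ⟶ T) : Prop :=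
  ∀ E : Set T, IsClopen E → g ⁻¹' E = ∅ → E = ∅

/-- Clopen subsets come from the target. -/
def CSur {T' T : Scheme.{u}} (g : T' ⟶ T) : Prop :=
  ∀ E' : Set T', IsClopen E' → ∃ E : Set T, IsClopen E ∧ g ⁻¹' E = E'

/-- Pull-back of clopen subsets is bijective. -/
def CBij {T' T : Scheme.{u}} (g : T' ⟶ T) : Prop := CInj g ∧ CSur g

/-- The claim for one strictly henselian base `t : Spec A ⟶ S` and one strict localization `Spec B` of `Y_A`. -/
def ClAt (n : ℕ) {X Y S : Scheme.{u}} (f : X ⟶ Y) (b : Y ⟶ S) {A B : Type u} [CommRing A] [IsLocalRing A]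
    [CommRing B] [IsLocalRing B] (t : Spec (CommRingCat.of A) ⟶ S)
    (σ : Spec (CommRingCat.of B) ⟶ pullback b t) (β : A →+* B) : Prop :=
  ∀ (G : Type) [Group G] [Finite G], Nat.card G ∣ n →
    ∀ (T : FEt.Cat (pullback f (σ ≫ pullback.fst b t))) (ρ : G →* Aut T), SGA1t.IsPrincipal G T ρ →
      CBij (pullback.fst (T.hom ≫ pullback.snd f (σ ≫ pullback.fst b t) ≫ spm β) (resPt A))

/-- The claim for one strictly henselian ring `A`. -/
def ClFor (n : ℕ) {X Y S : Scheme.{u}} (f : X ⟶ Y) (b : Y ⟶ S) (A : Type u) [CommRing A] [IsLocalRing A]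
    (t : Spec (CommRingCat.of A) ⟶ S) : Prop :=
  ∀ (B : Type u) [CommRing B] [IsLocalRing B] (σ : Spec (CommRingCat.of B) ⟶ pullback b t) (_ : IsStrictLoc σ)
    (β : A →+* B) (_ : IsLocalHom β) (_ : σ ≫ pullback.snd b t = spm β), ClAt n f b t σ β

/-- The claim for all strictly henselian bases. -/
def Cl (n : ℕ) {X Y S : Scheme.{u}} (f : X ⟶ Y) (b : Y ⟶ S) : Prop :=
  ∀ (A : Type u) [CommRing A] [IsLocalRing A] (_ : HenselianLocalRing A) (_ : IsSepClosed (ResidueField A))
    (_ : IsUnit (n : A)) (t : Spec (CommRingCat.of A) ⟶ S), ClFor n f b A t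

/-- The claim for the strict localizations of the `S`-schemes locally of finite type. -/
def ClN (n : ℕ) {X Y S : Scheme.{u}} (f : X ⟶ Y) (b : Y ⟶ S) : Prop :=
  ∀ (A : Type u) [CommRing A] [IsLocalRing A] (S' : Scheme.{u}) (s : S' ⟶ S) (_ : LocallyOfFiniteType s)
    (τ : Spec (CommRingCat.of A) ⟶ S') (_ : IsStrictLoc τ) (_ : IsUnit (n : A)), ClFor n f b A (τ ≫ s)

end K157.ClDef
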