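import Groth.Agent.EtAcyc.K157.FinFam
import Groth.Agent.EtAcyc.K157.Cech
import Groth.Agent.EtAcyc.K168.AsphDef
import Groth.Agent.Pi1.H408.PrincRestrict
import Groth.Agent.EtAcyc.K548.Good
import Groth.Agent.Sga1.UlaSL

/-!
# Local asphericity descends along finite surjective morphisms

`p : X₁ ⟶ X` finite and surjective, with good double and triple fibre products over `S`.  If `X₁ / S` is aspherical
at all points over `x`, then `X / S` is aspherical at `x`.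
-/

set_option autoImplicit false
universe u

open CategoryTheory CategoryTheory.Limits AlgebraicGeometry IsLocalRing
open Groth.Agent.Etrest.StrictLoc Groth.Agent.Etrest.StrictLocBC
open Groth.Agent.Etrest

namespace K157.FinAsph

open K157.Pb K157.Lift K157.Cech K157.FinFam K168.AsphDef TensorProduct

/-- The product of two strict localizations over a given one. -/
theorem exists_prod {X S : Scheme.{u}} {f : X ⟶ S} {A : Type u} [CommRing A] {t : Spec (CommRingCat.of A) ⟶ S}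
    {B : Type u} [CommRing B] [IsLocalRing B] {σ : Spec (CommRingCat.of B) ⟶ pullback f t} (hσ : IsStrictLoc σ)
    {Z₁ Z₂ : Scheme.{u}} (q₁ : Z₁ ⟶ X) (q₂ : Z₂ ⟶ X) {D₁ D₂ : Type u} [CommRing D₁] [IsLocalRing D₁] [CommRing D₂]
    [IsLocalRing D₂] (α₁ : B →+* D₁) (α₂ : B →+* D₂) (hl₁ : IsLocalHom α₁) (hl₂ : IsLocalHom α₂)
    (hi₁ : α₁.IsIntegral) (hi₂ : α₂.IsIntegral) (τ₁ : Spec (CommRingCat.of D₁) ⟶ pullback (q₁ ≫ f) t)
    (τ₂ : Spec (CommRingCat.of D₂) ⟶ pullback (q₂ ≫ f) t) (hτ₁ : IsStrictLoc τ₁) (hτ₂ : IsStrictLoc τ₂)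
    (c₁ : spm α₁ ≫ σ = τ₁ ≫ pb q₁ (𝟙 _) rfl (Category.id_comp t))
    (c₂ : spm α₂ ≫ σ = τ₂ ≫ pb q₂ (𝟙 _) rfl (Category.id_comp t)) :
    ∃ (T : Type u) (_ : CommRing T) (_ : IsLocalRing T) (γ₁ : D₁ →+* T) (γ₂ : D₂ →+* T)
      (τ : Spec (CommRingCat.of T) ⟶ pullback ((pullback.fst q₁ q₂ ≫ q₁) ≫ f) t),
      IsStrictLoc τ ∧ IsLocalHom (γ₁.comp α₁) ∧ (γ₁.comp α₁).IsIntegral ∧
      IsPullback (spm γ₁) (spm γ₂) (spm α₁) (spm α₂) ∧
      spm (γ₁.comp α₁) ≫ σ = τ ≫ pb (pullback.fst q₁ q₂ ≫ q₁) (𝟙 _) rfl (Category.id_comp t) := by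
  let _ : Algebra B D₁ := α₁.toAlgebra
  let _ : Algebra B D₂ := α₂.toAlgebra
  have : IsLocalHom (algebraMap B D₁) := hl₁
  have : IsLocalHom (algebraMap B D₂) := hl₂
  have : Algebra.IsIntegral B D₁ := ⟨hi₁⟩
  have hX := isPullback_pb (p := f) (t := t) (IsPullback.of_hasPullback q₁ q₂)
    (z₁ := q₁ ≫ f) (z₂ := q₂ ≫ f) (z := (pullback.fst q₁ q₂ ≫ q₁) ≫ f) rfl rfl (Category.assoc _ _ _).symm
    (by rw [pullback.condition, Category.assoc])
  obtain ⟨hloc, hL, hR, ζ, hζ, h1, h2⟩ := K157.TensorLoc.isStrictLoc_tensor hX.flip hσ hτ₁ hτ₂ c₁ c₂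
  let iL : D₁ →+* D₁ ⊗[B] D₂ := (Algebra.TensorProduct.includeLeft : D₁ →ₐ[B] D₁ ⊗[B] D₂).toRingHom
  let iR : D₂ →+* D₁ ⊗[B] D₂ := (Algebra.TensorProduct.includeRight : D₂ →ₐ[B] D₁ ⊗[B] D₂).toRingHom
  have hLR : iL.comp α₁ = iR.comp α₂ := by
    have h1 := AlgHom.comp_algebraMap (Algebra.TensorProduct.includeRight : D₂ →ₐ[B] D₁ ⊗[B] D₂)
    have h2 := AlgHom.comp_algebraMap (Algebra.TensorProduct.includeLeft : D₁ →ₐ[B] D₁ ⊗[B] D₂)
    exact h2.trans h1.symm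
  have hiR : iR.IsIntegral := IntTensor.isIntegral_includeRight B D₁ D₂
  refine ⟨D₁ ⊗[B] D₂, inferInstance, hloc, iL, iR, ζ, hζ, ?_, ?_, ?_, ?_⟩
  · have : IsLocalHom iL := hL
    exact RingHom.isLocalHom_comp iL α₁
  · rw [hLR]
    exact hi₂.trans _ _ hiR
  · exact isPullback_SpecMap_of_isPushout _ _ _ _ (CommRingCat.isPushout_tensorProduct B D₁ D₂)
  · have h3 : pb (pullback.fst q₁ q₂ ≫ q₁) (𝟙 _) rfl (Category.id_comp t) =
        pb (pullback.fst q₁ q₂) (𝟙 _) (Category.assoc _ _ _).symm (Category.id_comp t) ≫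
          pb (p := f) q₁ (𝟙 _) rfl (Category.id_comp t) :=
      (pb_comp _ _ _ _ rfl (Category.id_comp (𝟙 _))).symm
    rw [h3, ← Category.assoc, h2, Category.assoc, ← c₁, spm_comp, Category.assoc]

/-- The Milnor fibres of a good morphism are connected. -/
theorem connectedSpace_of_good {Z S : Scheme.{u}} {g : Z ⟶ S} (hg : K548.Good.IsGood g) {A : Type u} [CommRing A]
    [IsLocalRing A] (hA : HenselianLocalRing A) (hA' : IsSepClosed (ResidueField A))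
    {t : Spec (CommRingCat.of A) ⟶ S} {T : Type u} [CommRing T] [IsLocalRing T]
    {τ : Spec (CommRingCat.of T) ⟶ pullback g t} (hτ : IsStrictLoc τ) (β : A →+* T) (hβ : IsLocalHom β)
    (h : τ ≫ pullback.snd g t = spm β) (Ω : Type u) [Field Ω] [IsSepClosed Ω] (ξ : A →+* Ω) :
    ConnectedSpace ↥(pullback (spm β) (spm ξ)) := by
  obtain ⟨-, h2⟩ := hg (pullback.snd g t) (pullback.fst g t) t (IsPullback.of_hasPullback g t) A T (𝟙 _) τ
    (Groth.Agent.Sga1.UlaSL.isStrictLoc_id A) hτ β hβ (by rw [Category.comp_id, h])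
  exact K548.Good.connectedSpace_pullback_right h2 Ω (spm ξ)

/-- **Descent of local asphericity along finite surjective morphisms.** -/
theorem asphAt_of_finite {n : ℕ} {X X₁ S : Scheme.{u}} (p : X₁ ⟶ X) [IsFinite p] [Surjective p] (f : X ⟶ S)
    (h2 : K548.Good.IsGood ((pullback.fst p p ≫ p) ≫ f))
    (h3 : K548.Good.IsGood ((pullback.fst (pullback.fst p p ≫ p) p ≫ pullback.fst p p ≫ p) ≫ f)) (x : X)
    (h : ∀ x₁ : X₁, p x₁ = x → AsphAt n (p ≫ f) x₁) : AsphAt n f x := by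
  intro A B _ _ _ _ hA hA' hn t σ hσ hx β hβ hc Ω _ _ ξ hξ G _ _ hG P ρ hP
  let q : pullback (p ≫ f) t ⟶ pullback f t := pb p (𝟙 _) rfl (Category.id_comp t)
  have sqq := isPullback_pb_left (p := f) (t := t) p rfl (Category.id_comp t)
  have hq1 : IsFinite q := MorphismProperty.of_isPullback sqq.flip inferInstance
  have hq2 : Surjective q := MorphismProperty.of_isPullback sqq.flip inferInstance
  obtain ⟨ι, _, D, _, _, τ, α, hτ, hα, hint, hcomm, hsurj⟩ := exists_family q hσ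
  let M : Scheme.{u} := pullback (spm β) (spm ξ)
  let Z (i : ι) : Scheme.{u} := pullback (spm ((α i).comp β)) (spm ξ)
  have hz (i : ι) : spm (α i) ≫ spm β = spm ((α i).comp β) := (spm_comp _ _).symm
  let y (i : ι) : Z i ⟶ M := pb (spm (α i)) (𝟙 _) (hz i) (Category.id_comp _)
  have sqy (i : ι) : IsPullback (y i) (pullback.fst (spm ((α i).comp β)) (spm ξ)) (pullback.fst (spm β) (spm ξ))
    (spm (α i)) := isPullback_pb_left (p := spm β) (t := spm ξ) (spm (α i)) (hz i) (Category.id_comp _)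
  have hy (i : ι) : UniversallyClosed (y i) := by
    have h4 : IsIntegralHom (spm (α i)) := IsIntegralHom.SpecMap_iff.2 (hint i)
    have h5 : IsIntegralHom (y i) := MorphismProperty.of_isPullback (sqy i).flip h4
    infer_instance
  have hys (m : M) : ∃ i, m ∈ Set.range (y i) := by
    obtain ⟨i, d, hd⟩ := hsurj (pullback.fst (spm β) (spm ξ) m)
    obtain ⟨z, hz, -⟩ := Scheme.exists_preimage_of_isPullback (sqy i) m d hd.symm
    exact ⟨i, z, hz⟩
  -- general base change of products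
  have key1 : ∀ (Q : Scheme.{u}) (r : Q ⟶ X) (T : Type u) [CommRing T] [IsLocalRing T] (δ : B →+* T)
      (_ : IsLocalHom δ) (τ' : Spec (CommRingCat.of T) ⟶ pullback (r ≫ f) t) (_ : IsStrictLoc τ')
      (_ : spm δ ≫ σ = τ' ≫ pb r (𝟙 _) rfl (Category.id_comp t)) (_ : K548.Good.IsGood (r ≫ f)),
      ConnectedSpace ↥(pullback (spm (δ.comp β)) (spm ξ)) := by
    intro Q r T _ _ δ hδ τ' hτ' hc' hg
    refine connectedSpace_of_good hg hA hA' hτ' (δ.comp β) (RingHom.isLocalHom_comp δ β) ?_ Ω ξ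
    have h4 := congrArg (· ≫ pullback.snd f t) hc'
    simp only [Category.assoc, pb_snd, Category.comp_id] at h4
    rw [← h4, hc, spm_comp]
  have pbk : ∀ {D₁ D₂ T : Type u} [CommRing D₁] [CommRing D₂] [CommRing T] (α₁ : B →+* D₁) (α₂ : B →+* D₂)
      (γ₁ : D₁ →+* T) (γ₂ : D₂ →+* T) (_ : IsPullback (spm γ₁) (spm γ₂) (spm α₁) (spm α₂))
      (e1 : spm α₁ ≫ spm β = spm (α₁.comp β)) (e2 : spm α₂ ≫ spm β = spm (α₂.comp β))
      (e3 : spm γ₁ ≫ spm (α₁.comp β) = spm ((γ₁.comp α₁).comp β))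
      (e4 : spm γ₂ ≫ spm (α₂.comp β) = spm ((γ₁.comp α₁).comp β)),
      IsPullback (pb (spm γ₁) (𝟙 _) e3 (Category.id_comp (spm ξ))) (pb (spm γ₂) (𝟙 _) e4 (Category.id_comp (spm ξ)))
        (pb (spm α₁) (𝟙 _) e1 (Category.id_comp (spm ξ))) (pb (spm α₂) (𝟙 _) e2 (Category.id_comp (spm ξ))) := by
    intro D₁ D₂ T _ _ _ α₁ α₂ γ₁ γ₂ H e1 e2 e3 e4
    exact isPullback_pb (p := spm β) (t := spm ξ) H e1 e2 e3 e4
  have e3' : ∀ {D₁ T : Type u} [CommRing D₁] [CommRing T] (α₁ : B →+* D₁)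
      (γ₁ : D₁ →+* T), spm γ₁ ≫ spm (α₁.comp β) = spm ((γ₁.comp α₁).comp β) := by
    intro D₁ T _ _ α₁ γ₁
    rw [← spm_comp]
  have e4' : ∀ {D₁ D₂ T : Type u} [CommRing D₁] [CommRing D₂] [CommRing T] (α₁ : B →+* D₁) (α₂ : B →+* D₂)
      (γ₁ : D₁ →+* T) (γ₂ : D₂ →+* T) (_ : IsPullback (spm γ₁) (spm γ₂) (spm α₁) (spm α₂)),
      spm γ₂ ≫ spm (α₂.comp β) = spm ((γ₁.comp α₁).comp β) := by
    intro D₁ D₂ T _ _ _ α₁ α₂ γ₁ γ₂ H
    rw [spm_comp, spm_comp, spm_comp, Category.assoc, ← reassoc_of% H.w]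
  have hc2 (i j : ι) : ConnectedSpace ↥(pullback (y i) (y j)) := by
    obtain ⟨T, _, _, γ₁, γ₂, τ', g1, g2, g3, g4, g5⟩ := exists_prod hσ p p (α i) (α j) (hα i) (hα j) (hint i)
      (hint j) (τ i) (τ j) (hτ i) (hτ j) (hcomm i) (hcomm j)
    have h4 := key1 _ _ T (γ₁.comp (α i)) g2 τ' g1 g5 h2
    have H := pbk (α i) (α j) γ₁ γ₂ g4 (hz i) (hz j) (e3' _ _) (e4' _ _ _ _ g4)
    exact (Scheme.homeoOfIso H.isoPullback).surjective.connectedSpace
      (Scheme.homeoOfIso H.isoPullback).continuous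
  have hc3 (i j k : ι) : Nonempty ↥(pullback (pullback.fst (y i) (y j) ≫ y i) (y k)) := by
    obtain ⟨T, _, _, γ₁, γ₂, τ', g1, g2, g3, g4, g5⟩ := exists_prod hσ p p (α i) (α j) (hα i) (hα j) (hint i)
      (hint j) (τ i) (τ j) (hτ i) (hτ j) (hcomm i) (hcomm j)
    obtain ⟨T', _, _, γ₃, γ₄, τ'', k1, k2, k3, k4, k5⟩ := exists_prod hσ (pullback.fst p p ≫ p) p
      (γ₁.comp (α i)) (α k) g2 (hα k) g3 (hint k) τ' (τ k) g1 (hτ k) g5 (hcomm k)
    have h4 := key1 _ _ T' (γ₃.comp (γ₁.comp (α i))) k2 τ'' k1 k5 h3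
    have H := pbk (α i) (α j) γ₁ γ₂ g4 (hz i) (hz j) (e3' _ _) (e4' _ _ _ _ g4)
    have H' := pbk (γ₁.comp (α i)) (α k) γ₃ γ₄ k4 (spm_comp _ _).symm (hz k) (e3' _ _) (e4' _ _ _ _ k4)
    have e5 : pb (spm γ₁) (𝟙 _) (e3' (α i) γ₁) (Category.id_comp (spm ξ)) ≫ y i =
        pb (spm (γ₁.comp (α i))) (𝟙 _) (spm_comp _ _).symm (Category.id_comp (spm ξ)) :=
      pb_comp _ _ _ _ (spm_comp _ _).symm (Category.id_comp (𝟙 _))
    obtain ⟨w⟩ := h4.toNonempty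
    exact ⟨pullback.lift (pb (spm γ₃) (𝟙 _) (e3' _ _) (Category.id_comp _) ≫ H.isoPullback.hom)
      (pb (spm γ₄) (𝟙 _) (e4' _ _ _ _ k4) (Category.id_comp _)) (by
        rw [Category.assoc, H.isoPullback_hom_fst_assoc]
        exact (congrArg (_ ≫ ·) e5).trans H'.w) w⟩
  have hres : ∀ i, HasLift P (y i) := by
    intro i
    have h6 := Groth.Agent.Pi1.H408.PrincRestrict.isPrincipal_restrict (y i) P ρ hP
    have h7 : τ i ≫ pullback.snd (p ≫ f) t = spm ((α i).comp β) := by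
      have h4 := congrArg (· ≫ pullback.snd f t) (hcomm i)
      simp only [Category.assoc, q, pb_snd, Category.comp_id] at h4
      rw [← h4, hc, hz]
    have h8 : p ((τ i ≫ pullback.fst (p ≫ f) t) (closedPoint (D i))) = x := by
      have h4 := congrArg (· ≫ pullback.fst f t) (hcomm i)
      simp only [Category.assoc, q, pb_fst] at h4
      have h5 : (spm (α i)) (closedPoint (D i)) = closedPoint B :=
        Spec_closedPoint (R := CommRingCat.of B) (S := CommRingCat.of (D i)) (f := CommRingCat.ofHom (α i))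
      rw [← hx, ← Scheme.Hom.comp_apply, Category.assoc, ← h4, Scheme.Hom.comp_apply, h5]
    obtain ⟨s, hs⟩ := h _ h8 A (D i) hA hA' hn t (τ i) (hτ i) rfl ((α i).comp β)
      (RingHom.isLocalHom_comp (α i) β) h7 Ω ξ hξ G hG _ _ h6
    exact (hasLift_restrict_iff P (y i) (𝟙 _)).1 ⟨s, hs⟩ |>.comp' (𝟙 _) (by simp)
  obtain ⟨s, hs⟩ := hasLift_of_cech y hy hys hc2 hc3 P ρ hP hres
  exact ⟨⟨s, hs⟩⟩

end K157.FinAsph
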