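import Groth.Agent.EtAcyc.K157.TensorLoc
import Groth.Agent.EtAcyc.K548.StrictPts
import Groth.Agent.Pi1.K157.Pb

/-!
# The strict localizations of a finite scheme over a strict localization
-/

set_option autoImplicit false
universe u

open CategoryTheory CategoryTheory.Limits AlgebraicGeometry IsLocalRing
open Groth.Agent.Etrest.StrictLoc Groth.Agent.Etrest.StrictLocBC
open Groth.Agent.Etrest

namespace K157.FinFam

open K157.Pb

/-- The local rings of a finite scheme over a strict localization. -/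
theorem exists_family {X X' : Scheme.{u}} (q : X' ⟶ X) [IsFinite q] [Surjective q] {B : Type u} [CommRing B]
    [IsLocalRing B] {σ : Spec (CommRingCat.of B) ⟶ X} (hσ : IsStrictLoc σ) :
    ∃ (ι : Type u) (_ : Finite ι) (D : ι → Type u) (_ : ∀ i, CommRing (D i)) (_ : ∀ i, IsLocalRing (D i))
      (τ : ∀ i, Spec (CommRingCat.of (D i)) ⟶ X') (α : ∀ i, B →+* D i),
      (∀ i, IsStrictLoc (τ i)) ∧ (∀ i, IsLocalHom (α i)) ∧ (∀ i, (α i).IsIntegral) ∧
      (∀ i, spm (α i) ≫ σ = τ i ≫ q) ∧ ∀ b : Spec (CommRingCat.of B), ∃ i, b ∈ Set.range (spm (α i)) := by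
  have hh : HenselianLocalRing B := hσ.henselian
  let W := pullback q σ
  let π₁ : W ⟶ X' := pullback.fst q σ
  let π₂ : W ⟶ Spec (CommRingCat.of B) := pullback.snd q σ
  have hW : IsPullback π₁ π₂ q σ := IsPullback.of_hasPullback q σ
  have hi : IsFinite π₂ := MorphismProperty.of_isPullback hW inferInstance
  have hs : Surjective π₂ := MorphismProperty.of_isPullback hW inferInstance
  have hfin : Finite {w : W // π₂ w = closedPoint B} := by
    have h1 : (π₂ ⁻¹' {closedPoint B}).Finite := π₂.finite_preimage_singleton (closedPoint B)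
    exact h1.to_subtype
  have hpt (i : {w : W // π₂ w = closedPoint B}) :
      π₂ (W.fromSpecStalk i.1 (closedPoint (W.presheaf.stalk i.1))) = closedPoint B := by
    rw [Scheme.fromSpecStalk_closedPoint]
    exact i.2
  let α (i : {w : W // π₂ w = closedPoint B}) : B →+* W.presheaf.stalk i.1 :=
    (Spec.preimage (W.fromSpecStalk i.1 ≫ π₂)).hom
  have hα (i) : spm (α i) = W.fromSpecStalk i.1 ≫ π₂ := Spec.map_preimage _
  have hαl (i) : IsLocalHom (α i) := by
    apply K548.Radicial.isLocalHom_of_closedPoint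
    rw [hα]
    exact hpt i
  have hint (i) : (α i).IsIntegral :=
    StrictLocInt.isIntegral_stalk_of_isIntegralHom π₂ i.1 i.2 (α i) (hα i)
  refine ⟨{w : W // π₂ w = closedPoint B}, hfin, fun i => W.presheaf.stalk i.1, inferInstance, inferInstance,
    fun i => W.fromSpecStalk i.1 ≫ π₁, α, fun i => ?_, hαl, hint, fun i => ?_, fun b => ?_⟩
  · exact isStrictLoc_of_isPullback hσ hW (isLocAt_fromSpecStalk W i.1) (α i) (hint i) (hα i)
  · rw [hα, Category.assoc, Category.assoc, hW.w]
  · obtain ⟨w, hw⟩ := hs.surj b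
    have haff : IsAffine W := isAffine_of_isAffineHom π₂
    obtain ⟨y, hy, hyc⟩ := (isClosed_closure (s := {w})).exists_closed_singleton ⟨w, subset_closure rfl⟩
    have hwy : w ⤳ y := specializes_iff_mem_closure.2 hy
    have hpt : π₂ y = closedPoint B := by
      have h1 : IsClosed ({π₂ y} : Set (Spec (CommRingCat.of B))) := by
        rw [← Set.image_singleton]
        exact π₂.isClosedMap _ hyc
      have h2 : π₂ y ⤳ (closedPoint B : Spec (CommRingCat.of B)) :=
        IsLocalRing.specializes_closedPoint (R := B) _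
      exact (h2.mem_closed h1 rfl).symm
    refine ⟨⟨y, hpt⟩, ?_⟩
    have h3 := Scheme.range_fromSpecStalk (X := W) (x := y)
    obtain ⟨d, hd⟩ : w ∈ Set.range (W.fromSpecStalk y) := by
      rw [h3]
      exact hwy
    refine ⟨d, ?_⟩
    rw [hα, Scheme.Hom.comp_apply]
    exact (congrArg π₂ hd).trans hw

/-- Fibre products and base change. -/
theorem isPullback_pb {S T X Z Z₁ Z₂ : Scheme.{u}} {p : X ⟶ S} {t : T ⟶ S} {a : Z₁ ⟶ X} {b : Z₂ ⟶ X}
    {l : Z ⟶ Z₁} {r : Z ⟶ Z₂} (H : IsPullback l r a b) {z₁ : Z₁ ⟶ S} {z₂ : Z₂ ⟶ S} {z : Z ⟶ S}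
    (ha : a ≫ p = z₁) (hb : b ≫ p = z₂) (hl : l ≫ z₁ = z) (hr : r ≫ z₂ = z) :
    IsPullback (pb l (𝟙 T) hl (Category.id_comp t)) (pb r (𝟙 T) hr (Category.id_comp t))
      (pb a (𝟙 T) ha (Category.id_comp t)) (pb b (𝟙 T) hb (Category.id_comp t)) := by
  refine IsPullback.of_bot (h₃₁ := b) (v₂₁ := pullback.fst z₂ t)
      (v₂₂ := pullback.fst p t) ?_ ?_ (isPullback_pb_left (p := p) (t := t) b hb (Category.id_comp t))
  · rw [pb_fst, pb_fst]
    exact (isPullback_pb_left (p := z₁) (t := t) l hl (Category.id_comp t)).paste_vert H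
  · rw [pb_comp _ _ _ _ rfl (Category.id_comp (𝟙 T)), pb_comp _ _ _ _ H.w.symm (Category.id_comp (𝟙 T))]

end K157.FinFam
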