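import Groth.Agent.EtAcyc.K157.AlgPt
import Groth.Agent.S2070

/-!
# Normal morphisms from the normality of all base changes to fields
-/

set_option autoImplicit false
universe u

open CategoryTheory CategoryTheory.Limits AlgebraicGeometry TensorProduct

namespace K157.GeoNormal

/-- normality of the stalks passes to open subschemes -/
theorem stalk_of_target {X Y : Scheme.{u}} (j : X ⟶ Y) [IsOpenImmersion j] (x : X)
    (hx : IsDomain (Y.presheaf.stalk (j x)) ∧ IsIntegrallyClosed (Y.presheaf.stalk (j x))) :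
    IsDomain (X.presheaf.stalk x) ∧ IsIntegrallyClosed (X.presheaf.stalk x) :=
  AlgPt.transport (asIso (j.stalkMap x)).commRingCatIsoToRingEquiv hx

theorem isNormalRing_of_stalk (R : Type u) [CommRing R]
    (h : ∀ z : Spec (CommRingCat.of R), IsDomain ((Spec (CommRingCat.of R)).presheaf.stalk z) ∧
      IsIntegrallyClosed ((Spec (CommRingCat.of R)).presheaf.stalk z)) : EGA4.IsNormalRing R := by
  intro p hp
  let z : Spec (CommRingCat.of R) := ⟨p, hp⟩
  exact AlgPt.transport (StructureSheaf.stalkIso (CommRingCat.of R) z).symm.toRingEquiv (h z)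

/-- A flat morphism all of whose base changes to fields are normal is a normal morphism. -/
theorem isNormalHom {X S : Scheme.{u}} (g : X ⟶ S) [Flat g]
    (h : ∀ (L : Type u) [Field L] (t : Spec (CommRingCat.of L) ⟶ S) (z : ↥(pullback t g)),
      IsDomain ((pullback t g).presheaf.stalk z) ∧ IsIntegrallyClosed ((pullback t g).presheaf.stalk z))
    (U : X.Opens) (W : S.Opens) (hU : IsAffineOpen U) (hW : IsAffineOpen W) (hUW : U ≤ g ⁻¹ᵁ W) :
    letI := (g.appLE W U hUW).hom.toAlgebra
    EGA4.IsNormalHom Γ(S, W) Γ(X, U) := by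
  let φ := g.appLE W U hUW
  let _ : Algebra Γ(S, W) Γ(X, U) := φ.hom.toAlgebra
  refine ⟨?_, ?_⟩
  · have h1 := (HasRingHomProperty.iff_appLE (P := @Flat)).1 ‹Flat g› ⟨W, hW⟩ ⟨U, hU⟩ hUW
    exact h1
  · intro p hp L _ _ _
    let _ : Algebra Γ(S, W) L := ((algebraMap p.ResidueField L).comp (algebraMap Γ(S, W) p.ResidueField)).toAlgebra
    have hst : IsScalarTower Γ(S, W) p.ResidueField L := .of_algebraMap_eq fun _ => rfl
    let e1 : L ⊗[p.ResidueField] (p.ResidueField ⊗[Γ(S, W)] Γ(X, U)) ≃ₐ[L] L ⊗[Γ(S, W)] Γ(X, U) :=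
      Algebra.TensorProduct.cancelBaseChange Γ(S, W) p.ResidueField L L Γ(X, U)
    refine Groth.Agent.S2070.isNormalRing_of_ringEquiv e1.symm.toRingEquiv ?_
    refine isNormalRing_of_stalk _ fun z => ?_
    let ψ : Γ(S, W) ⟶ CommRingCat.of L := CommRingCat.ofHom (algebraMap Γ(S, W) L)
    let t : Spec (CommRingCat.of L) ⟶ S := Spec.map ψ ≫ hW.fromSpec
    let m : pullback (Spec.map ψ) (Spec.map φ) ⟶ pullback t g :=
      pullback.map (Spec.map ψ) (Spec.map φ) t g (𝟙 _) hU.fromSpec hW.fromSpec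
        (Category.id_comp _).symm (IsAffineOpen.SpecMap_appLE_fromSpec g hW hU hUW)
    have hm : IsOpenImmersion m := inferInstance
    let e : pullback (Spec.map ψ) (Spec.map φ) ≅ Spec (CommRingCat.of (L ⊗[Γ(S, W)] Γ(X, U))) :=
      pullbackSpecIso Γ(S, W) L Γ(X, U)
    exact stalk_of_target (e.inv ≫ m) z (h L t _)

end K157.GeoNormal
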