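import Groth.Agent.EtAcyc.K157.GeoSnc
import Groth.Agent.EtAcyc.K157.GeoNormal
import Groth.Agent.EtAcyc.K157.AlgCase
import Mathlib.RingTheory.LocalRing.ResidueField.Fiber
import Mathlib.RingTheory.Ideal.Height

/-!
# Good pairs from algebraic data
-/

set_option autoImplicit false
universe u

open CategoryTheory CategoryTheory.Limits AlgebraicGeometry TensorProduct

namespace K157.GeoAff

open Groth.Agent.Etrest.StrictLoc K868.Bc

/-- The algebraic data for a good pair. -/
structure PairData (D A : Type u) [CommRing D] [CommRing A] [Algebra D A] (J : Ideal A) (S : Set A) : Prop where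
  finiteType : Algebra.FiniteType D A
  flat : Module.Flat D A
  normal : ∀ (K : Type u) [Field K] [Algebra D K], IsDomain (K ⊗[D] A) ∧ IsIntegrallyClosed (K ⊗[D] A)
  dense : ∃ f ∈ J, ∀ (K : Type u) [Field K] [Algebra D K], (1 : K) ⊗ₜ[D] f ≠ 0
  smooth : ∀ f ∈ S, Algebra.Smooth D (Localization.Away f)
  smooth' : ∀ f ∈ S, Algebra.Smooth D (Localization.Away (Ideal.Quotient.mk J f))
  codim : ∀ (K : Type u) [Field K] [Algebra D K] (q : Ideal (K ⊗[D] A)) [q.IsPrime], q.height ≤ 1 →
    ∃ f ∈ S, (1 : K) ⊗ₜ[D] f ∉ q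

/-- The open complement. -/
def cpl {A : Type u} [CommRing A] (J : Ideal A) : (Spec (CommRingCat.of A)).Opens :=
  ⟨(PrimeSpectrum.zeroLocus (J : Set A))ᶜ, (PrimeSpectrum.isClosed_zeroLocus _).isOpen_compl⟩

theorem mem_cpl {A : Type u} [CommRing A] (J : Ideal A) (x : Spec (CommRingCat.of A)) :
    x ∈ cpl J ↔ ¬ J ≤ PrimeSpectrum.asIdeal x := Iff.rfl

/-- localization of a closed immersion -/
theorem exists_isPullback {A B Af Bf : Type u} [CommRing A] [CommRing B] [CommRing Af] [CommRing Bf] (π : A →+* B) (f : A)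
    [Algebra A Af] [IsLocalization.Away f Af] [Algebra B Bf] [IsLocalization.Away (π f) Bf] :
    ∃ b : Spec (CommRingCat.of Bf) ⟶ Spec (CommRingCat.of Af),
      IsPullback b (spm (algebraMap B Bf)) (spm (algebraMap A Af)) (spm π) := by
  have hp : Submonoid.powers f ≤ (Submonoid.powers (π f)).comap π := by
    rintro _ ⟨n, rfl⟩
    exact ⟨n, (map_pow π f n).symm⟩
  have hj : IsOpenImmersion (spm (algebraMap A Af)) := IsOpenImmersion.of_isLocalization f
  have ha : IsOpenImmersion (spm (algebraMap B Bf)) := IsOpenImmersion.of_isLocalization (π f)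
  refine ⟨spm (IsLocalization.map Bf π hp), ?_⟩
  refine IsOpenImmersion.isPullback _ _ _ _ ?_ ?_
  · rw [← spm_comp, ← spm_comp, IsLocalization.map_comp hp]
  · apply TopologicalSpace.Opens.ext
    have hrj : Set.range (spm (algebraMap A Af)) = (PrimeSpectrum.basicOpen f : Set (PrimeSpectrum A)) :=
      PrimeSpectrum.localization_away_comap_range Af f
    have hra : Set.range (spm (algebraMap B Bf)) = (PrimeSpectrum.basicOpen (π f) : Set (PrimeSpectrum B)) :=
      PrimeSpectrum.localization_away_comap_range Bf (π f)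
    change spm π ⁻¹' Set.range (spm (algebraMap A Af)) = Set.range (spm (algebraMap B Bf))
    rw [hrj, hra]
    rfl

/-- the local structure at a point where both `A` and `A ⧸ J` are smooth -/
theorem local_snc {D A B Af Bf : Type u} [CommRing D] [CommRing A] [CommRing B] [CommRing Af] [CommRing Bf]
    [Algebra D A] (π : A →+* B) (hπ : Function.Surjective π) (f : A)
    [Algebra A Af] [IsLocalization.Away f Af] [Algebra B Bf] [IsLocalization.Away (π f) Bf]
    (hs1 : Smooth (spm (algebraMap A Af) ≫ spm (algebraMap D A)))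
    (hs2 : Smooth (spm (algebraMap B Bf) ≫ spm π ≫ spm (algebraMap D A)))
    (x : Spec (CommRingCat.of A)) (hfx : f ∉ PrimeSpectrum.asIdeal x) (hx : RingHom.ker π ≤ PrimeSpectrum.asIdeal x)
    (hd : ∃ y ∈ cpl (RingHom.ker π), y ⤳ x) :
    (∃ (W : (Spec (CommRingCat.of A)).Opens) (_ : x ∈ W) (r : ℕ) (φ : Fin r → Γ((W : Scheme.{u}), ⊤)),
      SGA1t.IsRelSNC (W.ι ≫ spm (algebraMap D A)) φ ∧ W.ι ⁻¹ᵁ cpl (RingHom.ker π) = SGA1t.compl φ) ∨
    ∃ y₀ y₁ : Spec (CommRingCat.of A), y₀ ⤳ y₁ ∧ y₁ ⤳ x ∧ y₀ ≠ y₁ ∧ y₁ ≠ x ∧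
      spm (algebraMap D A) y₀ = spm (algebraMap D A) x := by
  obtain ⟨b, hpb⟩ := exists_isPullback (Af := Af) (Bf := Bf) π f
  let i₀ : Spec (CommRingCat.of B) ⟶ Spec (CommRingCat.of A) := spm π
  let j : Spec (CommRingCat.of Af) ⟶ Spec (CommRingCat.of A) := spm (algebraMap A Af)
  let a : Spec (CommRingCat.of Bf) ⟶ Spec (CommRingCat.of B) := spm (algebraMap B Bf)
  have hj : IsOpenImmersion j := IsOpenImmersion.of_isLocalization f
  have hi₀ : IsClosedImmersion i₀ := IsClosedImmersion.spec_of_surjective _ hπ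
  have hrj : Set.range j = (PrimeSpectrum.basicOpen f : Set (PrimeSpectrum A)) :=
    PrimeSpectrum.localization_away_comap_range Af f
  have hb : IsClosedImmersion b := MorphismProperty.of_isPullback hpb.flip hi₀
  have hs2' : Smooth (b ≫ j ≫ spm (algebraMap D A)) := by
    have h1 : b ≫ j ≫ spm (algebraMap D A) = a ≫ i₀ ≫ spm (algebraMap D A) := by
      rw [← Category.assoc, hpb.w, Category.assoc]
    rw [h1]
    exact hs2
  obtain ⟨x₁, hx₁⟩ : x ∈ Set.range j := by
    rw [hrj]
    exact hfx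
  have hri (z : Spec (CommRingCat.of A)) (hz : RingHom.ker π ≤ PrimeSpectrum.asIdeal z) : z ∈ Set.range i₀ := by
    change z ∈ Set.range (PrimeSpectrum.comap π)
    rw [range_comap_of_surjective _ _ hπ]
    exact hz
  obtain ⟨x₂, hx₂⟩ := hri x hx
  obtain ⟨y, hy, -⟩ := Scheme.exists_preimage_of_isPullback hpb x₁ x₂ (hx₁.trans hx₂.symm)
  have hcplj (z : Spec (CommRingCat.of Af)) : j z ∈ cpl (RingHom.ker π) ↔ z ∉ Set.range b := by
    rw [← not_iff_not, not_not]
    constructor
    · intro h1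
      obtain ⟨z₂, hz₂⟩ := hri (j z) (not_not.1 h1)
      obtain ⟨w, hw, -⟩ := Scheme.exists_preimage_of_isPullback hpb z z₂ hz₂.symm
      exact ⟨w, hw⟩
    · rintro ⟨w, rfl⟩
      have h0 : j (b w) = i₀ (a w) := by
        rw [← Scheme.Hom.comp_apply, ← Scheme.Hom.comp_apply]
        exact congrArg (fun k : Spec (CommRingCat.of Bf) ⟶ Spec (CommRingCat.of A) => k w) hpb.w
      intro h1
      rw [h0] at h1
      refine h1 ?_
      intro t ht
      change π t ∈ PrimeSpectrum.asIdeal (a w)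
      rw [(RingHom.mem_ker).1 ht]
      exact Ideal.zero_mem _
  rcases GeoSnc.localStructure (j ≫ spm (algebraMap D A)) b y with ⟨U, hyU, hU⟩ | ⟨U, hyU, φ, hφ, hφ'⟩ |
      ⟨x₀, x₁', h1, h2, h3, h4, h5⟩
  · -- excluded by density
    exfalso
    obtain ⟨v, hvJ, hvx⟩ := hd
    have h1 : v ∈ j '' (U : Set (Spec (CommRingCat.of Af))) := by
      refine hvx.mem_open (j.isOpenEmbedding.isOpenMap _ U.2) ⟨b y, hyU, ?_⟩
      rw [hy, hx₁]
    obtain ⟨z, hz, rfl⟩ := h1
    exact (hcplj z).1 hvJ (hU hz)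
  · -- the divisor
    refine Or.inl ?_
    let k : (U : Scheme.{u}) ⟶ Spec (CommRingCat.of A) := U.ι ≫ j
    let W : (Spec (CommRingCat.of A)).Opens := k.opensRange
    let e : (U : Scheme.{u}) ≅ (W : Scheme.{u}) := k.isoOpensRange
    have he : e.inv ≫ k = W.ι := k.isoOpensRange_inv_comp
    refine ⟨W, ⟨⟨b y, hyU⟩, ?_⟩, 1, fun l => e.inv.appTop (φ l), ?_, ?_⟩
    · change j (U.ι ⟨b y, hyU⟩) = x
      rw [← hx₁, ← hy]
      rfl
    · have h1 := Groth.Agent.Pi1.H403.RelSNCBase.isRelSNC_of_etale e.inv hφ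
      rw [← he]
      have h2 : e.inv ≫ U.ι ≫ j ≫ spm (algebraMap D A) = (e.inv ≫ k) ≫ spm (algebraMap D A) := by
        simp only [k, Category.assoc]
      rw [h2] at h1
      exact h1
    · ext w
      have h1 : SGA1t.compl (fun l => e.inv.appTop (φ l)) = e.inv ⁻¹ᵁ SGA1t.compl φ := by
        change (W : Scheme.{u}).basicOpen (∏ l, e.inv.appTop (φ l)) = e.inv ⁻¹ᵁ (U : Scheme.{u}).basicOpen (∏ l, φ l)
        rw [Scheme.preimage_basicOpen_top, map_prod]
      have h2 : w ∈ SGA1t.compl (fun l => e.inv.appTop (φ l)) ↔ e.inv w ∈ SGA1t.compl φ := by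
        rw [h1]
        exact Iff.rfl
      refine Iff.trans ?_ h2.symm
      rw [hφ', ← hcplj]
      change W.ι w ∈ cpl (RingHom.ker π) ↔ _
      rw [← he, Scheme.Hom.comp_apply]
      exact Iff.rfl
  · refine Or.inr ⟨j x₀, j x₁', h1.map j.continuous, ?_, ?_, ?_, ?_⟩
    · rw [← hx₁, ← hy]
      exact h2.map j.continuous
    · exact fun h6 => h3 (j.isOpenEmbedding.injective h6)
    · rw [← hx₁, ← hy]
      exact fun h6 => h4 (j.isOpenEmbedding.injective h6)
    · rw [Scheme.Hom.comp_apply, Scheme.Hom.comp_apply] at h5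
      rw [h5, hy, hx₁]

variable {D A : Type u} [CommRing D] [CommRing A] [Algebra D A] {J : Ideal A} {S : Set A} (H : PairData D A J S)

include H

theorem PairData.isNormal (U : (Spec (CommRingCat.of A)).Opens) (W : (Spec (CommRingCat.of D)).Opens)
    (hU : IsAffineOpen U) (hW : IsAffineOpen W) (hUW : U ≤ spm (algebraMap D A) ⁻¹ᵁ W) :
    letI := ((spm (algebraMap D A)).appLE W U hUW).hom.toAlgebra
    EGA4.IsNormalHom Γ(Spec (CommRingCat.of D), W) Γ(Spec (CommRingCat.of A), U) := by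
  have hfl : Flat (spm (algebraMap D A)) := by
    rw [Flat.SpecMap_iff]
    exact RingHom.flat_algebraMap_iff.2 H.flat
  refine GeoNormal.isNormalHom (spm (algebraMap D A)) ?_ U W hU hW hUW
  intro L _ t z
  obtain ⟨ψ, rfl⟩ := Spec.map_surjective t
  let _ : Algebra D L := ψ.hom.toAlgebra
  have h1 := H.normal L
  have := h1.1
  have := h1.2
  let e : pullback (Spec.map ψ) (spm (algebraMap D A)) ≅ Spec (CommRingCat.of (L ⊗[D] A)) :=
    pullbackSpecIso D L A
  exact GeoNormal.stalk_of_target e.hom z (AlgPt.stalk_spec (AlgCase.isNormalRing) _)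

theorem PairData.exists_dense (x : Spec (CommRingCat.of A)) :
    ∃ y ∈ cpl J, y ⤳ x ∧ spm (algebraMap D A) y = spm (algebraMap D A) x := by
  obtain ⟨f, hfJ, hf⟩ := H.dense
  let s : PrimeSpectrum D := PrimeSpectrum.comap (algebraMap D A) x
  have h1 := H.normal s.asIdeal.ResidueField
  have := h1.1
  let e := PrimeSpectrum.preimageOrderIsoFiber D A s
  let x' : PrimeSpectrum.comap (algebraMap D A) ⁻¹' {s} := ⟨x, rfl⟩
  let η : PrimeSpectrum (s.asIdeal.Fiber A) := (⊥ : PrimeSpectrum (s.asIdeal.ResidueField ⊗[D] A))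
  let y := e.symm η
  have hy : y ≤ x' := by
    rw [← e.le_iff_le, OrderIso.apply_symm_apply]
    exact bot_le
  refine ⟨y.1, ?_, (PrimeSpectrum.le_iff_specializes _ _).1 hy, y.2⟩
  rw [mem_cpl]
  intro hJ
  have h2 : f ∈ y.1.asIdeal := hJ hfJ
  have h3 : (1 : s.asIdeal.ResidueField) ⊗ₜ[D] f ∈ η.asIdeal := h2
  exact hf s.asIdeal.ResidueField ((Ideal.mem_bot).1 h3)

theorem PairData.exists_snc (x : Spec (CommRingCat.of A)) : x ∈ cpl J ∨
    (∃ (W : (Spec (CommRingCat.of A)).Opens) (_ : x ∈ W) (r : ℕ) (φ : Fin r → Γ((W : Scheme.{u}), ⊤)),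
      SGA1t.IsRelSNC (W.ι ≫ spm (algebraMap D A)) φ ∧ W.ι ⁻¹ᵁ cpl J = SGA1t.compl φ) ∨
    ∃ y₀ y₁ : Spec (CommRingCat.of A), y₀ ⤳ y₁ ∧ y₁ ⤳ x ∧ y₀ ≠ y₁ ∧ y₁ ≠ x ∧
      spm (algebraMap D A) y₀ = spm (algebraMap D A) x := by
  by_cases hxJ : x ∈ cpl J
  · exact Or.inl hxJ
  refine Or.inr ?_
  rw [mem_cpl, not_not] at hxJ
  let s : PrimeSpectrum D := PrimeSpectrum.comap (algebraMap D A) x
  let e := PrimeSpectrum.preimageOrderIsoFiber D A s
  let x' : PrimeSpectrum.comap (algebraMap D A) ⁻¹' {s} := ⟨x, rfl⟩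
  let q : PrimeSpectrum (s.asIdeal.Fiber A) := e x'
  by_cases hq : q.asIdeal.height ≤ 1
  · obtain ⟨f, hfS, hf⟩ := H.codim s.asIdeal.ResidueField q.asIdeal hq
    have hfx : f ∉ PrimeSpectrum.asIdeal x := by
      intro h1
      have h2 : x' = e.symm q := (OrderIso.symm_apply_apply e x').symm
      have h3 : f ∈ (e.symm q).1.asIdeal := by
        rw [← h2]
        exact h1
      exact hf h3
    have hk : RingHom.ker (Ideal.Quotient.mk J) = J := Ideal.mk_ker
    have key := local_snc (D := D) (Af := Localization.Away f) (Bf := Localization.Away (Ideal.Quotient.mk J f))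
      (Ideal.Quotient.mk J) Ideal.Quotient.mk_surjective f ?_ ?_ x hfx (by rw [hk]; exact hxJ) (by
        rw [hk]
        obtain ⟨y, hy, hy', -⟩ := H.exists_dense x
        exact ⟨y, hy, hy'⟩)
    · rw [hk] at key
      exact key
    · rw [← spm_comp, HasRingHomProperty.Spec_iff (P := @Smooth)]
      have h1 := H.smooth f hfS
      have h2 : (algebraMap A (Localization.Away f)).comp (algebraMap D A) = algebraMap D (Localization.Away f) :=
        (IsScalarTower.algebraMap_eq D A (Localization.Away f)).symm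
      change ((algebraMap A (Localization.Away f)).comp (algebraMap D A)).Smooth
      rw [h2]
      exact RingHom.smooth_algebraMap.2 h1
    · rw [← spm_comp, ← spm_comp, HasRingHomProperty.Spec_iff (P := @Smooth)]
      have h1 := H.smooth' f hfS
      have h2 : (algebraMap (A ⧸ J) (Localization.Away (Ideal.Quotient.mk J f))).comp
          ((Ideal.Quotient.mk J).comp (algebraMap D A)) =
          algebraMap D (Localization.Away (Ideal.Quotient.mk J f)) :=
        (IsScalarTower.algebraMap_eq D (A ⧸ J) (Localization.Away (Ideal.Quotient.mk J f))).symm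
      change ((algebraMap (A ⧸ J) (Localization.Away (Ideal.Quotient.mk J f))).comp
          ((Ideal.Quotient.mk J).comp (algebraMap D A))).Smooth
      rw [h2]
      exact RingHom.smooth_algebraMap.2 h1
  · refine Or.inr ?_
    have h2 : ((2 : ℕ) : ℕ∞) ≤ Order.height q := by
      rw [← PrimeSpectrum.height_eq_orderHeight]
      exact Order.add_one_le_of_lt (not_le.1 hq)
    obtain ⟨l, hl, hl'⟩ := Order.exists_series_of_le_height q h2
    let p₀ := l ⟨0, by omega⟩
    let p₁ := l ⟨1, by omega⟩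
    have h01 : p₀ < p₁ := l.strictMono (by simp [Fin.lt_def])
    have h12 : p₁ < q := by
      rw [← hl]
      exact l.strictMono (by simp [Fin.lt_def, hl'])
    have hx : x = (e.symm q).1 := congrArg Subtype.val (OrderIso.symm_apply_apply e x').symm
    have h01' : (e.symm p₀) < (e.symm p₁) := e.symm.lt_iff_lt.2 h01
    have h12' : (e.symm p₁) < (e.symm q) := e.symm.lt_iff_lt.2 h12
    refine ⟨(e.symm p₀).1, (e.symm p₁).1, (PrimeSpectrum.le_iff_specializes _ _).1 h01'.le, ?_,
      fun h3 => h01'.ne (Subtype.ext h3), ?_, (e.symm p₀).2⟩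
    · rw [hx]
      exact (PrimeSpectrum.le_iff_specializes _ _).1 h12'.le
    · rw [hx]
      exact fun h3 => h12'.ne (Subtype.ext h3)

/-- The good pair. -/
theorem PairData.goodPair [IsNoetherianRing D] : GoodPair (spm (algebraMap D A)) (cpl J) where
  fp := by
    have h1 := H.finiteType
    have h2 : Algebra.FinitePresentation D A := Algebra.FinitePresentation.of_finiteType.1 h1
    rw [HasRingHomProperty.Spec_iff (P := @LocallyOfFinitePresentation)]
    exact RingHom.finitePresentation_algebraMap.2 h2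
  normal := fun U W hU hW hUW => H.isNormal U W hU hW hUW
  dense := H.exists_dense
  snc := H.exists_snc

end K157.GeoAff
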