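import Groth.Agent.EtAcyc.K157.GeoBr0
import Groth.Agent.EtAcyc.K142.GenPairMain2

/-!
# Good pairs after a generic finite cover
-/

set_option autoImplicit false
universe u

open CategoryTheory CategoryTheory.Limits AlgebraicGeometry TensorProduct

namespace K157.GeoBr

open Groth.Agent.Etrest.StrictLoc K868.Bc K157.GeoAff K157.GeoPi

theorem geo {R B : Type u} [CommRing R] [IsDomain R] (hR : Algebra.FiniteType ℤ R) [CommRing B] [Algebra R B]
    [Algebra.FiniteType R B] (V : (Spec (CommRingCat.of B)).Opens) :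
    ∃ (U : (Spec (CommRingCat.of R)).Opens) (_ : (U : Set (Spec (CommRingCat.of R))).Nonempty)
      (S₁ X₁ : Scheme.{u}) (a : S₁ ⟶ (U : Scheme.{u}))
      (p : X₁ ⟶ ((spm (algebraMap R B) ⁻¹ᵁ U : (Spec (CommRingCat.of B)).Opens) : Scheme.{u})) (g₁ : X₁ ⟶ S₁),
      LocallyOfFiniteType a ∧ IsFinite p ∧ p ≫ (spm (algebraMap R B) ∣_ U) = g₁ ≫ a ∧
      (∀ x, (spm (algebraMap R B) ⁻¹ᵁ U).ι x ∈ V → x ∈ Set.range p) ∧
      K868.Bc.GoodPair g₁ (p ⁻¹ᵁ ((spm (algebraMap R B) ⁻¹ᵁ U).ι ⁻¹ᵁ V)) := by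
  have hN : IsNoetherianRing R := Algebra.FiniteType.isNoetherianRing ℤ R
  obtain ⟨I₀, rfl⟩ := cpl_eq B V
  obtain ⟨d, D₁, _, _, _, n, A, _, _, _, m, y, J, S, hd, hD, hT, hfin, hinj, hT', hfin', hsurj, -, hgood, hpair, hnz⟩ :=
    K142.Gen.main_pair2 R B I₀
  have hO : IsOpenImmersion (spm (algebraMap R (Localization.Away d))) := IsOpenImmersion.of_isLocalization d
  let U : (Spec (CommRingCat.of R)).Opens := ⟨(PrimeSpectrum.basicOpen d : Set (PrimeSpectrum R)),
    (PrimeSpectrum.basicOpen d).2⟩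
  have hU : Set.range (spm (algebraMap R (Localization.Away d))) = (U : Set (Spec (CommRingCat.of R))) :=
    PrimeSpectrum.localization_away_comap_range (Localization.Away d) d
  have hL : IsNoetherianRing (Localization.Away d) := IsLocalization.isNoetherianRing (Submonoid.powers d) _ hN
  have hDN : IsNoetherianRing D₁ := IsNoetherianRing.of_finite (Localization.Away d) D₁
  obtain ⟨a, w, ha, hwf, hws, hw, hw'⟩ := exists_cover (B := B) U (Localization.Away d) hU D₁ hinj
  have hne : (U : Set (Spec (CommRingCat.of R))).Nonempty := ⟨(⊥ : PrimeSpectrum R), by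
    change (⊥ : PrimeSpectrum R) ∈ PrimeSpectrum.basicOpen d
    exact fun h => hd h⟩
  refine ⟨U, hne, ?_⟩
  refine geo_of_cover U I₀ D₁ a w ha hwf hws hw hw' A hsurj J (fun j => S j) (fun j => (hpair j).le)
    (fun j => (hpair j).le_radical) fun j hj => ?_
  refine ⟨(hgood j).finiteType, (hgood j).flat, ?_, ?_, (hpair j).smooth, (hpair j).smooth_quotient, ?_⟩
  · intro K _ _
    exact (hgood j).normal K
  · rcases hnz j with h0 | ⟨f, hf, hf'⟩
    · exact absurd h0 hj
    · refine ⟨f, hf, fun K _ _ => ?_⟩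
      have h1 := ((hgood j).normal K).1
      have : Nontrivial (K ⊗[D₁] A j) := h1.toNontrivial
      exact K142.Gen.ne_zero_of_nzd hf' K
  · intro K _ _ q hq hqh
    exact (hpair j).codim K q hq hqh

end K157.GeoBr
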