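import Groth.Agent.EtAcyc.K157.GeoPi

/-!
# Good pairs after a generic finite cover: assembly
-/

set_option autoImplicit false
universe u

open CategoryTheory CategoryTheory.Limits AlgebraicGeometry TensorProduct

namespace K157.GeoBr

open Groth.Agent.Etrest.StrictLoc K868.Bc K157.GeoAff K157.GeoPi

theorem cpl_eq (B : Type u) [CommRing B] (V : (Spec (CommRingCat.of B)).Opens) : ∃ I : Ideal B, V = cpl I := by
  let Z : Set (PrimeSpectrum B) := (V : Set (Spec (CommRingCat.of B)))ᶜ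
  have hZ : IsClosed Z := V.2.isClosed_compl
  refine ⟨PrimeSpectrum.vanishingIdeal Z, ?_⟩
  apply TopologicalSpace.Opens.ext
  have h1 : PrimeSpectrum.zeroLocus (PrimeSpectrum.vanishingIdeal Z : Set B) = Z := by
    rw [PrimeSpectrum.zeroLocus_vanishingIdeal_eq_closure, hZ.closure_eq]
  change _ = (PrimeSpectrum.zeroLocus (PrimeSpectrum.vanishingIdeal Z : Set B))ᶜ
  rw [h1]
  exact (compl_compl _).symm

theorem preimage_cpl {B A : Type u} [CommRing B] [CommRing A] (φ : B →+* A) (I : Ideal B) (J : Ideal A)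
    (h1 : I.map φ ≤ J) (h2 : J ≤ (I.map φ).radical) : spm φ ⁻¹ᵁ cpl I = cpl J := by
  ext x
  change (¬ I ≤ (PrimeSpectrum.asIdeal x).comap φ) ↔ ¬ J ≤ PrimeSpectrum.asIdeal x
  rw [← Ideal.map_le_iff_le_comap, not_iff_not]
  constructor
  · intro h
    exact h2.trans ((Ideal.IsPrime.radical_le_iff (PrimeSpectrum.isPrime x)).2 h)
  · exact fun h => h1.trans h

/-- The base change of an affine scheme to a finite cover of an open subscheme. -/
theorem exists_cover {R B : Type u} [CommRing R] [CommRing B] [Algebra R B] (U : (Spec (CommRingCat.of R)).Opens)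
    (L : Type u) [CommRing L] [Algebra R L] [IsOpenImmersion (spm (algebraMap R L))]
    (hr : Set.range (spm (algebraMap R L)) = (U : Set (Spec (CommRingCat.of R))))
    (D₁ : Type u) [CommRing D₁] [Algebra R D₁] [Algebra L D₁] [IsScalarTower R L D₁] [Module.Finite L D₁]
    (hinj : Function.Injective (algebraMap L D₁)) :
    ∃ (a : Spec (CommRingCat.of D₁) ⟶ (U : Scheme.{u}))
      (w : Spec (CommRingCat.of (D₁ ⊗[R] B)) ⟶ ((spm (algebraMap R B) ⁻¹ᵁ U : (Spec (CommRingCat.of B)).Opens) :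
        Scheme.{u})), IsFinite a ∧ IsFinite w ∧ Surjective w ∧
      w ≫ (spm (algebraMap R B) ∣_ U) = spm (algebraMap D₁ (D₁ ⊗[R] B)) ≫ a ∧
      w ≫ (spm (algebraMap R B) ⁻¹ᵁ U).ι =
        spm (Algebra.TensorProduct.includeRight : B →ₐ[R] D₁ ⊗[R] B).toRingHom := by
  let g : Spec (CommRingCat.of B) ⟶ Spec (CommRingCat.of R) := spm (algebraMap R B)
  let z₁ : Spec (CommRingCat.of (D₁ ⊗[R] B)) ⟶ Spec (CommRingCat.of B) :=
    spm (Algebra.TensorProduct.includeRight : B →ₐ[R] D₁ ⊗[R] B).toRingHom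
  let y₁ : Spec (CommRingCat.of (D₁ ⊗[R] B)) ⟶ Spec (CommRingCat.of D₁) := spm (algebraMap D₁ (D₁ ⊗[R] B))
  have sq₁ : IsPullback y₁ z₁ (spm (algebraMap R D₁)) g :=
    isPullback_SpecMap_of_isPushout _ _ _ _ (CommRingCat.isPushout_tensorProduct R D₁ B)
  let l : Spec (CommRingCat.of L) ⟶ Spec (CommRingCat.of R) := spm (algebraMap R L)
  have hl : IsOpenImmersion l := inferInstanceAs (IsOpenImmersion (spm (algebraMap R L)))
  have hrl' : Set.range l = Set.range U.ι := by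
    rw [Scheme.Opens.range_ι]
    exact hr
  let e : Spec (CommRingCat.of L) ≅ (U : Scheme.{u}) := IsOpenImmersion.isoOfRangeEq l U.ι hrl'
  have he : e.hom ≫ U.ι = l := IsOpenImmersion.isoOfRangeEq_hom_fac l U.ι hrl'
  let r : Spec (CommRingCat.of D₁) ⟶ Spec (CommRingCat.of L) := spm (algebraMap L D₁)
  have hrl2 : r ≫ l = spm (algebraMap R D₁) := by
    rw [← spm_comp, ← IsScalarTower.algebraMap_eq]
  have hrfin : IsFinite r := by
    rw [IsFinite.SpecMap_iff]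
    exact RingHom.finite_algebraMap.2 inferInstance
  have hrsurj : Surjective r := by
    refine ⟨?_⟩
    exact RingHom.IsIntegral.comap_surjective (f := algebraMap L D₁) (algebraMap_isIntegral_iff.2 inferInstance) hinj
  let a : Spec (CommRingCat.of D₁) ⟶ (U : Scheme.{u}) := r ≫ e.hom
  have ha : a ≫ U.ι = spm (algebraMap R D₁) := by rw [Category.assoc, he, hrl2]
  have hafin : IsFinite a := inferInstance
  have hasurj : Surjective a := inferInstance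
  have sqU : IsPullback (g ∣_ U) (g ⁻¹ᵁ U).ι U.ι g := isPullback_morphismRestrict g U
  have sq₁' : IsPullback y₁ z₁ (a ≫ U.ι) g := by rw [ha]; exact sq₁
  let w : Spec (CommRingCat.of (D₁ ⊗[R] B)) ⟶ ((g ⁻¹ᵁ U : (Spec (CommRingCat.of B)).Opens) : Scheme.{u}) :=
    sqU.lift (y₁ ≫ a) z₁ (by rw [Category.assoc]; exact sq₁'.w)
  have hw1 : w ≫ (g ∣_ U) = y₁ ≫ a := sqU.lift_fst _ _ _
  have hw2 : w ≫ (g ⁻¹ᵁ U).ι = z₁ := sqU.lift_snd _ _ _
  have sqw : IsPullback y₁ w a (g ∣_ U) := by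
    refine IsPullback.of_bot ?_ hw1.symm sqU
    rw [hw2]
    exact sq₁'
  have hwfin : IsFinite w := MorphismProperty.of_isPullback sqw hafin
  have hwsurj : Surjective w := MorphismProperty.of_isPullback sqw hasurj
  exact ⟨a, w, hafin, hwfin, hwsurj, hw1, hw2⟩

theorem geo_of_cover {R B : Type u} [CommRing R] [CommRing B] [Algebra R B] (U : (Spec (CommRingCat.of R)).Opens)
    (I₀ : Ideal B) (D₁ : Type u) [CommRing D₁] [Algebra R D₁] [IsNoetherianRing D₁]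
    (a : Spec (CommRingCat.of D₁) ⟶ (U : Scheme.{u}))
    (w : Spec (CommRingCat.of (D₁ ⊗[R] B)) ⟶ ((spm (algebraMap R B) ⁻¹ᵁ U : (Spec (CommRingCat.of B)).Opens) :
        Scheme.{u})) (ha : IsFinite a) (hwf : IsFinite w) (hws : Surjective w)
    (hw : w ≫ (spm (algebraMap R B) ∣_ U) = spm (algebraMap D₁ (D₁ ⊗[R] B)) ≫ a)
    (hw' : w ≫ (spm (algebraMap R B) ⁻¹ᵁ U).ι =
        spm (Algebra.TensorProduct.includeRight : B →ₐ[R] D₁ ⊗[R] B).toRingHom)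
    {n : ℕ} (A : Fin n → Type u) [∀ j, CommRing (A j)] [∀ j, Algebra D₁ (A j)] [∀ j, Algebra (D₁ ⊗[R] B) (A j)]
    [∀ j, IsScalarTower D₁ (D₁ ⊗[R] B) (A j)] [∀ j, Module.Finite (D₁ ⊗[R] B) (A j)]
    (hsurj : ∀ Q : PrimeSpectrum (D₁ ⊗[R] B), ∃ (j : Fin n) (Q' : PrimeSpectrum (A j)),
        PrimeSpectrum.comap (algebraMap (D₁ ⊗[R] B) (A j)) Q' = Q)
    (J : ∀ j, Ideal (A j)) (S : ∀ j, Set (A j))
    (hle : ∀ j, I₀.map ((algebraMap (D₁ ⊗[R] B) (A j)).comp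
      (Algebra.TensorProduct.includeRight : B →ₐ[R] D₁ ⊗[R] B).toRingHom) ≤ J j)
    (hrad : ∀ j, J j ≤ (I₀.map ((algebraMap (D₁ ⊗[R] B) (A j)).comp
      (Algebra.TensorProduct.includeRight : B →ₐ[R] D₁ ⊗[R] B).toRingHom)).radical)
    (H : ∀ j, J j ≠ ⊥ → PairData D₁ (A j) (J j) (S j)) :
    ∃ (S₁ X₁ : Scheme.{u}) (a : S₁ ⟶ (U : Scheme.{u}))
      (p : X₁ ⟶ ((spm (algebraMap R B) ⁻¹ᵁ U : (Spec (CommRingCat.of B)).Opens) : Scheme.{u})) (g₁ : X₁ ⟶ S₁),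
      LocallyOfFiniteType a ∧ IsFinite p ∧ p ≫ (spm (algebraMap R B) ∣_ U) = g₁ ≫ a ∧
      (∀ x, (spm (algebraMap R B) ⁻¹ᵁ U).ι x ∈ cpl I₀ → x ∈ Set.range p) ∧
      K868.Bc.GoodPair g₁ (p ⁻¹ᵁ ((spm (algebraMap R B) ⁻¹ᵁ U).ι ⁻¹ᵁ cpl I₀)) := by
  let z : B →+* D₁ ⊗[R] B := (Algebra.TensorProduct.includeRight : B →ₐ[R] D₁ ⊗[R] B).toRingHom
  let T : Type := {j : Fin n // J j ≠ ⊥}
  let A' : T → Type u := fun t => A t.1
  let _ (t : T) : CommRing (A' t) := inferInstanceAs (CommRing (A t.1))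
  let _ (t : T) : Algebra D₁ (A' t) := inferInstanceAs (Algebra D₁ (A t.1))
  let _ (t : T) : Algebra (D₁ ⊗[R] B) (A' t) := inferInstanceAs (Algebra (D₁ ⊗[R] B) (A t.1))
  have _ (t : T) : IsScalarTower D₁ (D₁ ⊗[R] B) (A' t) :=
    inferInstanceAs (IsScalarTower D₁ (D₁ ⊗[R] B) (A t.1))
  have _ (t : T) : Module.Finite (D₁ ⊗[R] B) (A' t) := inferInstanceAs (Module.Finite (D₁ ⊗[R] B) (A t.1))
  let E : Type u := ∀ t : T, A' t
  let q : Spec (CommRingCat.of E) ⟶ Spec (CommRingCat.of (D₁ ⊗[R] B)) := spm (algebraMap (D₁ ⊗[R] B) E)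
  have hq : IsFinite q := by
    rw [IsFinite.SpecMap_iff]
    exact RingHom.finite_algebraMap.2 (inferInstanceAs (Module.Finite (D₁ ⊗[R] B) (∀ t : T, A' t)))
  have hkq (t : T) : kk A' t ≫ q = spm (algebraMap (D₁ ⊗[R] B) (A t.1)) := by
    rw [← spm_comp]
    rfl
  have hq2 : q ≫ spm (algebraMap D₁ (D₁ ⊗[R] B)) = spm (algebraMap D₁ E) := by
    rw [← spm_comp, ← IsScalarTower.algebraMap_eq]
  have hcov (t : Fin n) : spm (algebraMap (D₁ ⊗[R] B) (A t)) ⁻¹ᵁ (w ⁻¹ᵁ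
      ((spm (algebraMap R B) ⁻¹ᵁ U).ι ⁻¹ᵁ cpl I₀)) = cpl (J t) := by
    have h1 : w ⁻¹ᵁ ((spm (algebraMap R B) ⁻¹ᵁ U).ι ⁻¹ᵁ cpl I₀) = spm z ⁻¹ᵁ cpl I₀ := by
      rw [← hw']
      rfl
    rw [h1]
    have h2 : spm (algebraMap (D₁ ⊗[R] B) (A t)) ⁻¹ᵁ (spm z ⁻¹ᵁ cpl I₀) =
        spm ((algebraMap (D₁ ⊗[R] B) (A t)).comp z) ⁻¹ᵁ cpl I₀ := rfl
    rw [h2]
    exact preimage_cpl _ _ _ (hle t) (hrad t)
  refine ⟨Spec (CommRingCat.of D₁), Spec (CommRingCat.of E), a, q ≫ w, spm (algebraMap D₁ E), inferInstance,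
    inferInstance, ?_, ?_, ?_⟩
  · rw [Category.assoc, hw, ← Category.assoc, hq2]
  · intro x hx
    obtain ⟨Q, rfl⟩ := hws.surj x
    obtain ⟨j, Q', hQ'⟩ := hsurj Q
    have hQ2 : spm (algebraMap (D₁ ⊗[R] B) (A j)) Q' = Q := hQ'
    have hmem : Q' ∈ cpl (J j) := by
      rw [← hcov j]
      change w (spm (algebraMap (D₁ ⊗[R] B) (A j)) Q') ∈ (spm (algebraMap R B) ⁻¹ᵁ U).ι ⁻¹ᵁ cpl I₀
      rw [hQ2]
      exact hx
    have hJ : J j ≠ ⊥ := by
      intro h0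
      have h1 := (mem_cpl (J j) Q').1 hmem
      rw [h0] at h1
      exact h1 bot_le
    refine ⟨kk A' ⟨j, hJ⟩ Q', ?_⟩
    have h3 : q (kk A' ⟨j, hJ⟩ Q') = Q := by
      rw [← Scheme.Hom.comp_apply, hkq]
      exact hQ2
    rw [Scheme.Hom.comp_apply, h3]
  · refine goodPair_pi A' (fun t => J t.1) (fun t => S t.1) (fun t => H t.1 t.2) _ fun t => ?_
    rw [← hcov t.1, ← hkq t]
    rfl

end K157.GeoBr
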