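import Groth.Agent.EtAcyc.K157.GeoAff
import Mathlib.AlgebraicGeometry.Limits

/-!
# Good pairs: finite disjoint unions
-/

set_option autoImplicit false
universe u

open CategoryTheory CategoryTheory.Limits AlgebraicGeometry TensorProduct

namespace K157.GeoPi

open Groth.Agent.Etrest.StrictLoc K868.Bc K157.GeoAff

section

variable {T : Type} (A : T → Type u) [∀ j, CommRing (A j)]

/-- The components of the spectrum of a product. -/
noncomputable abbrev kk (j : T) : Spec (CommRingCat.of (A j)) ⟶ Spec (CommRingCat.of (∀ j, A j)) :=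
  spm (Pi.evalRingHom A j)

instance isOpenImmersion_kk (j : T) : IsOpenImmersion (kk A j) :=
  inferInstanceAs (IsOpenImmersion (Spec.map (CommRingCat.ofHom (Pi.evalRingHom (A ·) j))))

theorem exists_kk [Finite T] (x : Spec (CommRingCat.of (∀ j, A j))) :
    ∃ (j : T) (y : Spec (CommRingCat.of (A j))), kk A j y = x :=
  PrimeSpectrum.exists_comap_evalRingHom_eq x

end

theorem goodPair_pi {T : Type} [Finite T] {D : Type u} [CommRing D] [IsNoetherianRing D] (A : T → Type u)
    [∀ j, CommRing (A j)] [∀ j, Algebra D (A j)] (J : ∀ j, Ideal (A j)) (S : ∀ j, Set (A j))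
    (H : ∀ j, PairData D (A j) (J j) (S j)) (V : (Spec (CommRingCat.of (∀ j, A j))).Opens)
    (hV : ∀ j, kk A j ⁻¹ᵁ V = cpl (J j)) : GoodPair (spm (algebraMap D (∀ j, A j))) V := by
  have hk (j : T) : kk A j ≫ spm (algebraMap D (∀ j, A j)) = spm (algebraMap D (A j)) := by
    rw [← spm_comp]
    rfl
  have hG (j : T) := (H j).goodPair
  let 𝒰 : (Spec (CommRingCat.of (∀ j, A j))).OpenCover :=
    Scheme.Cover.mkOfCovers T (fun j => Spec (CommRingCat.of (A j))) (kk A) (exists_kk A)
      (fun j => isOpenImmersion_kk A j)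
  have hfl : Flat (spm (algebraMap D (∀ j, A j))) := by
    refine (IsZariskiLocalAtSource.iff_of_openCover (P := @Flat) 𝒰).2 fun j => ?_
    change Flat (kk A j ≫ spm (algebraMap D (∀ j, A j)))
    rw [hk, Flat.SpecMap_iff]
    exact RingHom.flat_algebraMap_iff.2 (H j).flat
  refine ⟨?_, ?_, ?_, ?_⟩
  · refine (IsZariskiLocalAtSource.iff_of_openCover (P := @LocallyOfFinitePresentation) 𝒰).2 fun j => ?_
    change LocallyOfFinitePresentation (kk A j ≫ spm (algebraMap D (∀ j, A j)))
    rw [hk]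
    exact (hG j).fp
  · intro U W hU hW hUW
    refine GeoNormal.isNormalHom _ ?_ U W hU hW hUW
    intro L _ t z
    obtain ⟨j, y, hy⟩ := exists_kk A (pullback.snd t _ z)
    let m : pullback t (spm (algebraMap D (A j))) ⟶ pullback t (spm (algebraMap D (∀ j, A j))) :=
      pullback.map _ _ _ _ (𝟙 _) (kk A j) (𝟙 _) (by rw [Category.comp_id, Category.id_comp])
        (by rw [Category.comp_id, hk])
    have hm : IsOpenImmersion m := inferInstance
    obtain ⟨w, hw⟩ : z ∈ Set.range m := by
      have h0 := Scheme.Pullback.range_map t (spm (algebraMap D (A j))) t (spm (algebraMap D (∀ j, A j))) (𝟙 _)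
        (kk A j) (𝟙 _) (by rw [Category.comp_id, Category.id_comp]) (by rw [Category.comp_id, hk])
      change Set.range m = _ at h0
      rw [h0]
      exact ⟨⟨_, rfl⟩, ⟨y, hy⟩⟩
    refine AlgPt.stalk_of_isOpenImmersion m w z hw ?_
    obtain ⟨ψ, rfl⟩ := Spec.map_surjective t
    let _ : Algebra D L := ψ.hom.toAlgebra
    have h1 := (H j).normal L
    have := h1.1
    have := h1.2
    let e : pullback (Spec.map ψ) (spm (algebraMap D (A j))) ≅ Spec (CommRingCat.of (L ⊗[D] A j)) :=
      pullbackSpecIso D L (A j)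
    exact GeoNormal.stalk_of_target e.hom w (AlgPt.stalk_spec (AlgCase.isNormalRing) _)
  · intro x
    obtain ⟨j, x', rfl⟩ := exists_kk A x
    obtain ⟨y, hy, hyx, hy'⟩ := (hG j).dense x'
    rw [← hV j] at hy
    refine ⟨kk A j y, hy, hyx.map (kk A j).continuous, ?_⟩
    rw [← Scheme.Hom.comp_apply, ← Scheme.Hom.comp_apply, hk]
    exact hy'
  · intro x
    obtain ⟨j, x', rfl⟩ := exists_kk A x
    rcases (hG j).snc x' with h1 | ⟨W, hW, r, φ, hφ, hφ'⟩ | ⟨y₀, y₁, h1, h2, h3, h4, h5⟩
    · rw [← hV j] at h1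
      exact Or.inl h1
    · refine Or.inr (Or.inl ?_)
      let k : (W : Scheme.{u}) ⟶ Spec (CommRingCat.of (∀ j, A j)) := W.ι ≫ kk A j
      let W' : (Spec (CommRingCat.of (∀ j, A j))).Opens := k.opensRange
      let e : (W : Scheme.{u}) ≅ (W' : Scheme.{u}) := k.isoOpensRange
      have he : e.inv ≫ k = W'.ι := k.isoOpensRange_inv_comp
      refine ⟨W', ⟨⟨x', hW⟩, rfl⟩, r, fun l => e.inv.appTop (φ l), ?_, ?_⟩
      · have h1 := Groth.Agent.Pi1.H403.RelSNCBase.isRelSNC_of_etale e.inv hφ
        rw [← he]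
        have h2 : e.inv ≫ W.ι ≫ spm (algebraMap D (A j)) = (e.inv ≫ k) ≫ spm (algebraMap D (∀ j, A j)) := by
          rw [← hk j]
          simp only [k, Category.assoc]
        rw [h2] at h1
        exact h1
      · have h1 : SGA1t.compl (fun l => e.inv.appTop (φ l)) = e.inv ⁻¹ᵁ SGA1t.compl φ := by
          change (W' : Scheme.{u}).basicOpen (∏ l, e.inv.appTop (φ l)) = e.inv ⁻¹ᵁ (W : Scheme.{u}).basicOpen (∏ l, φ l)
          rw [Scheme.preimage_basicOpen_top, map_prod]
        rw [h1, ← hφ', ← hV j, ← he]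
        rfl
    · refine Or.inr (Or.inr ⟨kk A j y₀, kk A j y₁, h1.map (kk A j).continuous, h2.map (kk A j).continuous,
        fun h6 => h3 ((kk A j).isOpenEmbedding.injective h6), fun h6 => h4 ((kk A j).isOpenEmbedding.injective h6), ?_⟩)
      rw [← Scheme.Hom.comp_apply, ← Scheme.Hom.comp_apply, hk]
      exact h5

end K157.GeoPi
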