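import Groth.Agent.S1479
import Groth.Agent.Pi1.H403.RelSNCBase
import Groth.Agent.NonAbH1.K153.RelLine
import Mathlib.AlgebraicGeometry.PullbackCarrier

/-!
# Local structure of pairs of smooth schemes

`localStructure`: `Y ⟶ X` a closed immersion of smooth `S`-schemes.  Around a point of `Y`, either `Y` is open in `X`,
or `Y` is a relative snc divisor (with one component), or there is a strict chain of generizations of length two in the
fibre.
-/

set_option autoImplicit false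
universe u

open CategoryTheory CategoryTheory.Limits AlgebraicGeometry

namespace K157.GeoSnc

theorem appTop_eq_zero_iff {X : Scheme.{u}} {F : Type u} [Field F] (k : Spec (CommRingCat.of F) ⟶ X) (t : Γ(X, ⊤))
    (o : Spec (CommRingCat.of F)) : k.appTop t = 0 ↔ k o ∉ X.basicOpen t := by
  have h1 : k ⁻¹ᵁ X.basicOpen t = (Spec (CommRingCat.of F)).basicOpen (k.appTop t) :=
    Scheme.preimage_basicOpen_top k t
  have h2 : k o ∈ X.basicOpen t ↔ o ∈ (Spec (CommRingCat.of F)).basicOpen (k.appTop t) := by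
    rw [← h1]
    exact Iff.rfl
  rw [h2, ← basicOpen_eq_bot_iff]
  constructor
  · intro h
    rw [h]
    exact fun h => h.elim
  · intro h
    ext z
    have hz : z = o := Subsingleton.elim (α := PrimeSpectrum F) z o
    rw [hz]
    exact iff_of_false h (fun h => h.elim)

/-- a chart with one marked coordinate -/
theorem relSNC_of_chart {S U : Scheme.{u}} (f : U ⟶ S) (m : ℕ)
    (π : U ⟶ 𝔸(ULift.{u} (Fin m ⊕ Fin 1); S)) [Etale π] (hπ : π ≫ (𝔸(ULift.{u} (Fin m ⊕ Fin 1); S) ↘ S) = f) :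
    SGA1t.IsRelSNC f (fun _ : Fin 1 => π.appTop (AffineSpace.coord S (ULift.up (Sum.inr 0)))) := by
  intro x _
  let σ : ULift.{u} (Fin (m + 1)) ≃ ULift.{u} (Fin m ⊕ Fin 1) :=
    (Equiv.ulift.trans finSumFinEquiv.symm).trans Equiv.ulift.symm
  let W : U.Opens := ⊤
  let v : ULift.{u} (Fin (m + 1)) → Γ((W : Scheme.{u}), ⊤) := fun i =>
    W.ι.appTop (π.appTop (AffineSpace.coord S (σ i)))
  have h1 : AffineSpace.homOfVector (W.ι ≫ f) v = W.ι ≫ π ≫ AffineSpace.reindex σ S := by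
    apply AffineSpace.hom_ext
    · rw [AffineSpace.homOfVector_over, Category.assoc, Category.assoc, AffineSpace.reindex_over, hπ]
    · intro i
      rw [AffineSpace.homOfVector_appTop_coord, Scheme.Hom.comp_appTop, Scheme.Hom.comp_appTop,
        CommRingCat.comp_apply, CommRingCat.comp_apply, AffineSpace.reindex_appTop_coord]
  have h2 : IsIso (AffineSpace.reindex σ S) := by
    refine ⟨AffineSpace.reindex σ.symm S, ?_, ?_⟩
    · apply AffineSpace.hom_ext
      · rw [Category.assoc, AffineSpace.reindex_over, AffineSpace.reindex_over, Category.id_comp]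
      · intro i
        rw [Scheme.Hom.comp_appTop, CommRingCat.comp_apply, AffineSpace.reindex_appTop_coord,
          AffineSpace.reindex_appTop_coord, Equiv.apply_symm_apply]
        rfl
    · apply AffineSpace.hom_ext
      · rw [Category.assoc, AffineSpace.reindex_over, AffineSpace.reindex_over, Category.id_comp]
      · intro i
        rw [Scheme.Hom.comp_appTop, CommRingCat.comp_apply, AffineSpace.reindex_appTop_coord,
          AffineSpace.reindex_appTop_coord, Equiv.symm_apply_apply]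
        rfl
  refine ⟨W, trivial, m + 1, v, fun _ => finSumFinEquiv (Sum.inr 0), ?_, ?_, ?_⟩
  · rintro ⟨a, ha⟩ ⟨b, hb⟩ -
    exact Subtype.ext (Subsingleton.elim _ _)
  · rw [h1]
    infer_instance
  · intro k
    have h6 : σ ⟨finSumFinEquiv (Sum.inr 0)⟩ = ULift.up (Sum.inr 0) := by
      change ULift.up (finSumFinEquiv.symm (finSumFinEquiv (Sum.inr 0))) = _
      rw [Equiv.symm_apply_apply]
    change W.ι.appTop (π.appTop (AffineSpace.coord S (σ ⟨finSumFinEquiv (Sum.inr 0)⟩))) = _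
    rw [h6]
    exact K153.RelLine.ι_appTop_eq W _

/-- Strict chains in the fibres of affine spaces. -/
theorem exists_chain {S : Scheme.{u}} (m n : ℕ) (w : ↥(𝔸(ULift.{u} (Fin m ⊕ Fin (n + 2)); S)))
    (hw : ∀ j : Fin (n + 2), w ∉ (𝔸(ULift.{u} (Fin m ⊕ Fin (n + 2)); S)).basicOpen
      (AffineSpace.coord S (ULift.up (Sum.inr j)))) :
    ∃ w₀ w₁ : ↥(𝔸(ULift.{u} (Fin m ⊕ Fin (n + 2)); S)), w₀ ⤳ w₁ ∧ w₁ ⤳ w ∧ w₀ ≠ w₁ ∧ w₁ ≠ w ∧
      (𝔸(ULift.{u} (Fin m ⊕ Fin (n + 2)); S) ↘ S) w₀ = (𝔸(ULift.{u} (Fin m ⊕ Fin (n + 2)); S) ↘ S) w := by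
  let P := 𝔸(ULift.{u} (Fin m ⊕ Fin (n + 2)); S)
  let F := P.residueField w
  let k : Spec (CommRingCat.of F) ⟶ P := P.fromSpecResidueField w
  let pt : Spec (CommRingCat.of F) := IsLocalRing.closedPoint F
  have hk : k pt = w := Scheme.fromSpecResidueField_apply w _
  let R := MvPolynomial (Fin 2) F
  let θ : Spec (CommRingCat.of R) ⟶ Spec (CommRingCat.of F) := Spec.map (CommRingCat.ofHom (algebraMap F R))
  let γ (t : R) : Γ(Spec (CommRingCat.of R), ⊤) := (Scheme.ΓSpecIso (CommRingCat.of R)).inv.hom t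
  let vec : ULift.{u} (Fin m ⊕ Fin (n + 2)) → Γ(Spec (CommRingCat.of R), ⊤) := fun i =>
    Sum.elim (fun a => (θ ≫ k).appTop (AffineSpace.coord S (ULift.up (Sum.inl a))))
      (fun j => if j = 0 then γ (MvPolynomial.X 0) else if j = 1 then γ (MvPolynomial.X 1) else 0) i.down
  let h : Spec (CommRingCat.of R) ⟶ P := AffineSpace.homOfVector (θ ≫ k ≫ (P ↘ S)) vec
  -- the origin
  let ε : R →+* F := (MvPolynomial.aeval (fun _ => (0 : F)) : R →ₐ[F] F).toRingHom
  have hε : ε.comp (algebraMap F R) = RingHom.id F := (MvPolynomial.aeval (fun _ => (0 : F)) : R →ₐ[F] F).comp_algebraMap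
  have hεX (i : Fin 2) : ε (MvPolynomial.X i) = 0 := MvPolynomial.aeval_X _ _
  let o : Spec (CommRingCat.of F) ⟶ Spec (CommRingCat.of R) := Spec.map (CommRingCat.ofHom ε)
  have hoθ : o ≫ θ = 𝟙 _ := by
    rw [← Spec.map_comp, ← CommRingCat.ofHom_comp, hε, CommRingCat.ofHom_id, Spec.map_id]
  have hγ (t : R) : o.appTop (γ t) = (Scheme.ΓSpecIso (CommRingCat.of F)).inv.hom (ε t) := by
    have h1 := Scheme.ΓSpecIso_inv_naturality (CommRingCat.ofHom ε)
    exact (RingHom.congr_fun (congrArg CommRingCat.Hom.hom h1) t).symm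
  have hoh : o ≫ h = k := by
    apply AffineSpace.hom_ext
    · rw [Category.assoc, AffineSpace.homOfVector_over, ← Category.assoc, hoθ, Category.id_comp]
    · rintro ⟨i⟩
      rw [Scheme.Hom.comp_appTop, CommRingCat.comp_apply, AffineSpace.homOfVector_appTop_coord]
      rcases i with a | j
      · change o.appTop ((θ ≫ k).appTop _) = _
        rw [← CommRingCat.comp_apply, ← Scheme.Hom.comp_appTop, ← Category.assoc, hoθ, Category.id_comp]
      · have h0 : k.appTop (AffineSpace.coord S (ULift.up (Sum.inr j))) = 0 := by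
          rw [appTop_eq_zero_iff k _ pt, hk]
          exact hw j
        change o.appTop (if j = 0 then γ (MvPolynomial.X 0) else if j = 1 then γ (MvPolynomial.X 1) else 0) = _
        rw [h0]
        split_ifs
        · rw [hγ, hεX]
          exact map_zero _
        · rw [hγ, hεX]
          exact map_zero _
        · exact map_zero _
  -- the chain in `Spec R`
  let ψ : R →+* Polynomial F := (MvPolynomial.aeval (fun i : Fin 2 => if i = 0 then (0 : Polynomial F) else Polynomial.X) :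
    R →ₐ[F] Polynomial F).toRingHom
  have hψX (i : Fin 2) : ψ (MvPolynomial.X i) = if i = 0 then (0 : Polynomial F) else Polynomial.X :=
    MvPolynomial.aeval_X _ _
  have hψ0 : ψ (MvPolynomial.X 0) = 0 := (hψX 0).trans (if_pos rfl)
  have hψ1 : ψ (MvPolynomial.X 1) = Polynomial.X := (hψX 1).trans (if_neg one_ne_zero)
  have hψε : ∀ t, ψ t = 0 → ε t = 0 := by
    have h1 : (Polynomial.evalRingHom (0 : F)).comp ψ = ε := by
      apply MvPolynomial.ringHom_ext
      · intro a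
        have h2 : ψ (MvPolynomial.C a) = Polynomial.C a := MvPolynomial.aeval_C _ _
        have h3 : ε (MvPolynomial.C a) = a := MvPolynomial.aeval_C _ _
        rw [RingHom.comp_apply, h2, h3, Polynomial.coe_evalRingHom, Polynomial.eval_C]
      · intro i
        rw [RingHom.comp_apply, hψX, hεX, Polynomial.coe_evalRingHom]
        split_ifs
        · exact Polynomial.eval_zero
        · exact Polynomial.eval_X
    intro t ht
    rw [← h1, RingHom.comp_apply, ht, map_zero]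
  let q₀ : Spec (CommRingCat.of R) := (⊥ : PrimeSpectrum R)
  let q₁ : Spec (CommRingCat.of R) := (⟨RingHom.ker ψ, RingHom.ker_isPrime ψ⟩ : PrimeSpectrum R)
  let q₂ : Spec (CommRingCat.of R) := o pt
  have hq₂ (t : R) : t ∈ PrimeSpectrum.asIdeal q₂ ↔ ε t = 0 := by
    have h1 : PrimeSpectrum.asIdeal q₂ = (PrimeSpectrum.asIdeal pt).comap ε := rfl
    rw [h1, Ideal.mem_comap]
    change ε t ∈ IsLocalRing.maximalIdeal F ↔ _
    rw [IsLocalRing.maximalIdeal_eq_bot, Ideal.mem_bot]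
  have h01 : q₀ ⤳ q₁ := (PrimeSpectrum.le_iff_specializes (⊥ : PrimeSpectrum R) q₁).1 bot_le
  have h12 : q₁ ⤳ q₂ := (PrimeSpectrum.le_iff_specializes q₁ q₂).1 (fun t ht => (hq₂ t).2 (hψε t ht))
  have hθ (q : Spec (CommRingCat.of R)) : (P ↘ S) (h q) = (P ↘ S) w := by
    rw [← Scheme.Hom.comp_apply, AffineSpace.homOfVector_over, ← hk, ← Scheme.Hom.comp_apply, Scheme.Hom.comp_apply θ]
    congr 1
    exact Subsingleton.elim (α := PrimeSpectrum F) _ _
  have hmem (i : ULift.{u} (Fin m ⊕ Fin (n + 2))) (t : R) (hi : vec i = γ t) (q : Spec (CommRingCat.of R)) :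
      h q ∈ P.basicOpen (AffineSpace.coord S i) ↔ t ∉ PrimeSpectrum.asIdeal q := by
    have h1 : h ⁻¹ᵁ P.basicOpen (AffineSpace.coord S i) =
        (Spec (CommRingCat.of R)).basicOpen (h.appTop (AffineSpace.coord S i)) := Scheme.preimage_basicOpen_top h _
    have h2 : h q ∈ P.basicOpen (AffineSpace.coord S i) ↔
        q ∈ (Spec (CommRingCat.of R)).basicOpen (h.appTop (AffineSpace.coord S i)) := by
      rw [← h1]
      exact Iff.rfl
    have h3 : (Scheme.ΓSpecIso (CommRingCat.of R)).hom (γ t) = t := by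
      change ((Scheme.ΓSpecIso (CommRingCat.of R)).inv ≫ (Scheme.ΓSpecIso (CommRingCat.of R)).hom).hom t = t
      rw [Iso.inv_hom_id]
      rfl
    rw [h2, AffineSpace.homOfVector_appTop_coord, hi, basicOpen_eq_of_affine', h3]
    exact Iff.rfl
  have hv0 : vec (ULift.up (Sum.inr 0)) = γ (MvPolynomial.X 0) := by
    change (if (0 : Fin (n + 2)) = 0 then γ (MvPolynomial.X 0) else if (0 : Fin (n + 2)) = 1 then
      γ (MvPolynomial.X 1) else 0) = _
    rw [if_pos rfl]
  have hv1 : vec (ULift.up (Sum.inr 1)) = γ (MvPolynomial.X 1) := by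
    have h3 : (1 : Fin (n + 2)) ≠ 0 := one_ne_zero
    change (if (1 : Fin (n + 2)) = 0 then γ (MvPolynomial.X 0) else if (1 : Fin (n + 2)) = 1 then
      γ (MvPolynomial.X 1) else 0) = _
    rw [if_neg h3, if_pos rfl]
  have hw2 : h q₂ = w := by
    change h (o pt) = w
    rw [← Scheme.Hom.comp_apply, hoh, hk]
  refine ⟨h q₀, h q₁, h01.map h.continuous, ?_, ?_, ?_, hθ q₀⟩
  · rw [← hw2]
    exact h12.map h.continuous
  · intro he
    have h3 : h q₀ ∈ P.basicOpen (AffineSpace.coord S (ULift.up (Sum.inr 0))) := by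
      rw [hmem _ _ hv0]
      exact fun h4 => MvPolynomial.X_ne_zero (R := F) (0 : Fin 2) ((Ideal.mem_bot).1 h4)
    rw [he, hmem _ _ hv0] at h3
    exact h3 hψ0
  · intro he
    have h3 : h q₁ ∈ P.basicOpen (AffineSpace.coord S (ULift.up (Sum.inr 1))) := by
      rw [hmem _ _ hv1]
      intro h4
      have h5 : ψ (MvPolynomial.X 1) = 0 := h4
      rw [hψ1] at h5
      exact Polynomial.X_ne_zero h5
    rw [he] at h3
    exact hw 1 h3

/-- The closed subscheme in a chart is the zero locus of the last coordinates. -/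
theorem mem_range_iff {S U Y : Scheme.{u}} (b : Y ⟶ U) (m n : ℕ) (π : U ⟶ 𝔸(ULift.{u} (Fin m ⊕ Fin n); S))
    (ρ : Y ⟶ 𝔸(ULift.{u} (Fin m); S))
    (h : IsPullback ρ b (AffineSpace.homOfVector (𝔸(ULift.{u} (Fin m); S) ↘ S)
      (fun j : ULift.{u} (Fin m ⊕ Fin n) => Sum.elim (fun a => AffineSpace.coord S (ULift.up a)) (fun _ => 0) j.down)) π)
    (x : U) : x ∈ Set.range b ↔ ∀ j : Fin n, π x ∉ (𝔸(ULift.{u} (Fin m ⊕ Fin n); S)).basicOpen
      (AffineSpace.coord S (ULift.up (Sum.inr j))) := by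
  let vec : ULift.{u} (Fin m ⊕ Fin n) → Γ(𝔸(ULift.{u} (Fin m); S), ⊤) :=
    fun j => Sum.elim (fun a => AffineSpace.coord S (ULift.up a)) (fun _ => 0) j.down
  let ζ : 𝔸(ULift.{u} (Fin m); S) ⟶ 𝔸(ULift.{u} (Fin m ⊕ Fin n); S) :=
    AffineSpace.homOfVector (𝔸(ULift.{u} (Fin m); S) ↘ S) vec
  constructor
  · rintro ⟨y, rfl⟩ j hj
    rw [← Scheme.Hom.comp_apply, ← h.w, Scheme.Hom.comp_apply] at hj
    have h1 : ζ ⁻¹ᵁ (𝔸(ULift.{u} (Fin m ⊕ Fin n); S)).basicOpen (AffineSpace.coord S (ULift.up (Sum.inr j))) =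
      (𝔸(ULift.{u} (Fin m); S)).basicOpen (ζ.appTop (AffineSpace.coord S (ULift.up (Sum.inr j)))) :=
      Scheme.preimage_basicOpen_top ζ _
    have h2 : ρ y ∈ (𝔸(ULift.{u} (Fin m); S)).basicOpen (ζ.appTop (AffineSpace.coord S (ULift.up (Sum.inr j)))) := by
      rw [← h1]
      exact hj
    rw [AffineSpace.homOfVector_appTop_coord] at h2
    have h3 : vec (ULift.up (Sum.inr j)) = 0 := rfl
    rw [h3, Scheme.basicOpen_zero] at h2
    exact h2.elim
  · intro hj
    let F := U.residueField x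
    let k : Spec (CommRingCat.of F) ⟶ U := U.fromSpecResidueField x
    let pt : Spec (CommRingCat.of F) := IsLocalRing.closedPoint F
    have hk : k pt = x := Scheme.fromSpecResidueField_apply x _
    let k' : Spec (CommRingCat.of F) ⟶ 𝔸(ULift.{u} (Fin m); S) :=
      AffineSpace.homOfVector (k ≫ π ≫ (𝔸(ULift.{u} (Fin m ⊕ Fin n); S) ↘ S))
        (fun a => (k ≫ π).appTop (AffineSpace.coord S (ULift.up (Sum.inl a.down))))
    have hk' : k' ≫ ζ = k ≫ π := by
      apply AffineSpace.hom_ext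
      · rw [Category.assoc, AffineSpace.homOfVector_over, AffineSpace.homOfVector_over, Category.assoc]
      · rintro ⟨i⟩
        rw [Scheme.Hom.comp_appTop, CommRingCat.comp_apply, AffineSpace.homOfVector_appTop_coord]
        rcases i with i | j
        · change k'.appTop (AffineSpace.coord S (ULift.up i)) = _
          rw [AffineSpace.homOfVector_appTop_coord]
        · change k'.appTop 0 = _
          rw [map_zero]
          symm
          rw [appTop_eq_zero_iff (k ≫ π) _ pt, Scheme.Hom.comp_apply, hk]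
          exact hj j
    obtain ⟨y, -, hy⟩ := Scheme.exists_preimage_of_isPullback h (k' pt) x (by
      change ζ (k' pt) = π x
      rw [← Scheme.Hom.comp_apply, hk', Scheme.Hom.comp_apply, hk])
    exact ⟨y, hy⟩

/-- **Local structure of pairs of smooth schemes.** -/
theorem localStructure {S X Y : Scheme.{u}} (f : X ⟶ S) (i : Y ⟶ X) [IsClosedImmersion i] [Smooth f]
    [Smooth (i ≫ f)] (y : Y) :
    (∃ U : X.Opens, i y ∈ U ∧ (U : Set X) ⊆ Set.range i) ∨
    (∃ (U : X.Opens) (_ : i y ∈ U) (φ : Fin 1 → Γ((U : Scheme.{u}), ⊤)), SGA1t.IsRelSNC (U.ι ≫ f) φ ∧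
      ∀ u : (U : Scheme.{u}), u ∈ SGA1t.compl φ ↔ U.ι u ∉ Set.range i) ∨
    (∃ x₀ x₁ : X, x₀ ⤳ x₁ ∧ x₁ ⤳ i y ∧ x₀ ≠ x₁ ∧ x₁ ≠ i y ∧ f x₀ = f (i y)) := by
  obtain ⟨U, m, n, π, ρ, hy, hπ, hπS, hsq⟩ := Groth.Agent.S1479.result f (i ≫ f) i rfl y
  have hrange (u : (U : Scheme.{u})) : u ∈ Set.range (i ∣_ U) ↔ U.ι u ∈ Set.range i := by
    constructor
    · rintro ⟨v, rfl⟩
      exact ⟨(i ⁻¹ᵁ U).ι v, by rw [← Scheme.Hom.comp_apply, ← Scheme.Hom.comp_apply, morphismRestrict_ι]⟩
    · rintro ⟨v, hv⟩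
      obtain ⟨w, hw, -⟩ := Scheme.exists_preimage_of_isPullback (isPullback_morphismRestrict i U) u v hv.symm
      exact ⟨w, hw⟩
  let u₀ : (U : Scheme.{u}) := ⟨i y, hy⟩
  have hu₀ : U.ι u₀ = i y := rfl
  have hu₀r : u₀ ∈ Set.range (i ∣_ U) := (hrange u₀).2 ⟨y, rfl⟩
  have hcoord := mem_range_iff (i ∣_ U) m n π ρ hsq
  match n, π, ρ, hπ, hπS, hsq, hcoord with
  | 0, π, ρ, hπ, hπS, hsq, hcoord =>
    refine Or.inl ⟨U, hy, fun x hx => ?_⟩
    exact (hrange ⟨x, hx⟩).1 ((hcoord ⟨x, hx⟩).2 fun j => j.elim0)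
  | 1, π, ρ, hπ, hπS, hsq, hcoord =>
    refine Or.inr (Or.inl ⟨U, hy, fun _ : Fin 1 => π.appTop (AffineSpace.coord S (ULift.up (Sum.inr 0))),
      relSNC_of_chart (U.ι ≫ f) m π hπS, fun u => ?_⟩)
    rw [← hrange, hcoord]
    have h1 : u ∈ SGA1t.compl (fun _ : Fin 1 => π.appTop (AffineSpace.coord S (ULift.up (Sum.inr 0)))) ↔
        u ∈ (U : Scheme.{u}).basicOpen (π.appTop (AffineSpace.coord S (ULift.up (Sum.inr 0)))) := by
      change u ∈ (U : Scheme.{u}).basicOpen (∏ i : Fin 1, _) ↔ _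
      rw [Fin.prod_univ_one]
    rw [h1, ← Scheme.preimage_basicOpen_top π]
    constructor
    · intro h2 h3
      exact h3 0 h2
    · intro h2
      by_contra h3
      exact h2 fun j => by
        rw [Subsingleton.elim j 0]
        exact h3
  | n + 2, π, ρ, hπ, hπS, hsq, hcoord =>
    obtain ⟨w₀, w₁, h1, h2, h3, h4, h5⟩ := exists_chain m n (π u₀) ((hcoord u₀).1 hu₀r)
    obtain ⟨u₁, hu₁, hu₁'⟩ := Flat.generalizingMap π h2
    obtain ⟨v₀, hv₀, hv₀'⟩ := Flat.generalizingMap π (hu₁' ▸ h1)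
    refine Or.inr (Or.inr ⟨U.ι v₀, U.ι u₁, hv₀.map U.ι.continuous, hu₁.map U.ι.continuous, ?_, ?_, ?_⟩)
    · intro h6
      refine h3 ?_
      rw [← hv₀', ← hu₁', U.ι.isOpenEmbedding.injective h6]
    · intro h6
      refine h4 ?_
      rw [← hu₁', U.ι.isOpenEmbedding.injective (h6.trans hu₀.symm)]
    · rw [← hu₀, ← Scheme.Hom.comp_apply, ← Scheme.Hom.comp_apply, ← hπS, Scheme.Hom.comp_apply, Scheme.Hom.comp_apply,
        hv₀', h5]

end K157.GeoSnc
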