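import Groth.Agent.S2102
import Groth.Agent.S0427
import Groth.Agent.Etrest.StrictLoc
import Groth.Prelude.Def_Pi1
import Mathlib.AlgebraicGeometry.Normalization
import Mathlib.AlgebraicGeometry.Morphisms.Smooth
import Mathlib.AlgebraicGeometry.Morphisms.Etale

/-!
# The integral closure of a henselian normal domain in a finite normal scheme over an open subset
-/

set_option autoImplicit false
universe u

open CategoryTheory CategoryTheory.Limits AlgebraicGeometry IsLocalRing

namespace K157.Norm

open Groth.Agent.Etrest.StrictLoc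

theorem isIntegrallyClosed_integralClosure (R A : Type u) [CommRing R] [CommRing A] [Algebra R A] [IsDomain A]
    [IsIntegrallyClosed A] : IsIntegrallyClosed (integralClosure R A) := by
  let K := FractionRing A
  let F := FractionRing (integralClosure R A)
  rw [isIntegrallyClosed_iff F]
  intro x hx
  have hinj : Function.Injective ((algebraMap A K).comp (algebraMap (integralClosure R A) A)) :=
    (IsFractionRing.injective A K).comp Subtype.val_injective
  let g : F →+* K := IsFractionRing.lift hinj
  have hg : ∀ y, g (algebraMap (integralClosure R A) F y) = algebraMap A K (algebraMap _ A y) := fun y =>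
    IsFractionRing.lift_algebraMap hinj y
  have h1 : IsIntegral (integralClosure R A) (g x) := by
    obtain ⟨p, hp, hpx⟩ := hx
    refine ⟨p, hp, ?_⟩
    have h2 := congrArg g hpx
    rw [Polynomial.hom_eval₂, map_zero] at h2
    have h3 : g.comp (algebraMap (integralClosure R A) F) = algebraMap (integralClosure R A) K := by
      ext y
      rw [RingHom.comp_apply, hg, IsScalarTower.algebraMap_apply (integralClosure R A) A K]
    rw [h3] at h2
    exact h2
  have h2 : IsIntegral A (g x) := h1.tower_top
  obtain ⟨a, ha⟩ := (isIntegrallyClosed_iff K).1 inferInstance h2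
  have h3 : IsIntegral (integralClosure R A) a := by
    rw [← ha] at h1
    exact (isIntegral_algebraMap_iff (IsFractionRing.injective A K)).1 h1
  have h4 : IsIntegral R a := isIntegral_trans (A := integralClosure R A) a h3
  refine ⟨⟨a, h4⟩, ?_⟩
  apply g.injective
  rw [hg, ← ha]
  rfl

/-- The integral closure `N` of a henselian normal domain `B` in a finite normal integral scheme over an open
subset `U` of `Spec B`. -/
theorem exists_norm {B : Type u} [CommRing B] [IsDomain B] [HenselianLocalRing B] {U T₁ : Scheme.{u}}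
    (j : U ⟶ Spec (CommRingCat.of B)) [IsOpenImmersion j] [QuasiCompact j] (h : T₁ ⟶ U) [IsFinite h]
    [IsIntegral T₁] (hT : Pi1.IsNormalScheme T₁) [Surjective h] :
    ∃ (N : Type u) (_ : CommRing N) (_ : IsDomain N) (_ : IsLocalRing N) (_ : IsIntegrallyClosed N)
      (_ : Algebra B N) (_ : Algebra.IsIntegral B N) (ι : T₁ ⟶ Spec (CommRingCat.of N)),
      Function.Injective (algebraMap B N) ∧ IsPullback ι h (spm (algebraMap B N)) j := by
  let f : T₁ ⟶ Spec (CommRingCat.of B) := h ≫ j
  let W := f.normalization
  let π : W ⟶ Spec (CommRingCat.of B) := f.fromNormalization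
  have hπ : IsIntegralHom π := inferInstance
  have haff : IsAffine W := isAffine_of_isAffineHom π
  let N : Type u := Γ(W, ⊤)
  let α : B →+* N := (Spec.preimage (W.isoSpec.inv ≫ π)).hom
  have hα : spm α = W.isoSpec.inv ≫ π := Spec.map_preimage _
  let _ : Algebra B N := α.toAlgebra
  have hint : Algebra.IsIntegral B N := by
    have h1 : IsIntegralHom (spm α) := by rw [hα]; infer_instance
    exact ⟨IsIntegralHom.SpecMap_iff.1 h1⟩
  have hdom : IsDomain N := inferInstance
  have hloc : IsLocalRing N := Groth.Agent.S0427.isLocalRing_of_isIntegral B N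
  have hic : IsIntegrallyClosed N := by
    let _ : Algebra Γ(Spec (CommRingCat.of B), ⊤) Γ(T₁, f ⁻¹ᵁ ⊤) := (f.app ⊤).hom.toAlgebra
    have h1 : IsIntegrallyClosed Γ(T₁, f ⁻¹ᵁ ⊤) := Groth.Agent.S2102.result T₁ hT
    have h2 : IsDomain Γ(T₁, f ⁻¹ᵁ ⊤) := (inferInstance : IsDomain Γ(T₁, ⊤))
    have h3 := isIntegrallyClosed_integralClosure Γ(Spec (CommRingCat.of B), ⊤) Γ(T₁, f ⁻¹ᵁ ⊤)
    exact IsIntegrallyClosed.of_equiv (f.normalizationObjIso (isAffineOpen_top _)).symm.commRingCatIsoToRingEquiv
  let ι : T₁ ⟶ Spec (CommRingCat.of N) := f.toNormalization ≫ W.isoSpec.hom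
  have hιf : ι ≫ spm α = f := by
    rw [hα, Category.assoc, Iso.hom_inv_id_assoc, f.toNormalization_fromNormalization]
  have hinj : Function.Injective α := by
    have h1 : DenseRange f := by
      have h2 : Set.range f = Set.range j := by
        rw [Scheme.Hom.comp_base, TopCat.coe_comp, Set.range_comp, h.surjective.range_eq, Set.image_univ]
      have h3 : IsOpen (Set.range f) := by rw [h2]; exact j.isOpenEmbedding.isOpen_range
      have : IrreducibleSpace (Spec (CommRingCat.of B)) := inferInstance
      exact h3.dense (Set.range_nonempty f)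
    have h2 : DenseRange (spm α) := by
      refine Dense.mono ?_ h1
      rintro _ ⟨x, rfl⟩
      exact ⟨ι x, by rw [← Scheme.Hom.comp_apply, hιf]⟩
    have h3 : RingHom.ker α ≤ nilradical B := (PrimeSpectrum.denseRange_comap_iff_ker_le_nilRadical α).1 h2
    rw [nilradical_eq_zero] at h3
    exact (RingHom.injective_iff_ker_eq_bot α).2 (le_bot_iff.1 h3)
  refine ⟨N, inferInstance, hdom, hloc, hic, inferInstance, hint, ι, hinj, ?_⟩
  have sq0 : IsPullback (𝟙 T₁) h f j := by
    have h1 : IsPullback (𝟙 T₁) h h (𝟙 U) := IsPullback.of_horiz_isIso ⟨by simp⟩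
    have h2 : IsPullback (𝟙 U) (𝟙 U) j j := IsKernelPair.id_of_mono j
    simpa using h1.paste_vert h2
  let e0 : T₁ ≅ pullback f j := sq0.isoPullback
  have he1 : e0.hom ≫ pullback.fst f j = 𝟙 _ := sq0.isoPullback_hom_fst
  have he2 : e0.hom ≫ pullback.snd f j = h := sq0.isoPullback_hom_snd
  have hint2 : IsIntegralHom (pullback.snd f j) := by
    have h1 : pullback.snd f j = e0.inv ≫ h := by rw [← he2, Iso.inv_hom_id_assoc]
    rw [h1]
    infer_instance
  let φ : T₁ ⟶ pullback π j := e0.hom ≫ (pullback.snd f j).toNormalization ≫ f.normalizationPullback j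
  have hφ : IsIso φ := inferInstance
  have hφ1 : φ ≫ pullback.fst π j = f.toNormalization := by
    rw [Category.assoc, Category.assoc, f.toNormalization_normalizationPullback_fst, reassoc_of% he1]
  have hφ2 : φ ≫ pullback.snd π j = h := by
    rw [Category.assoc, Category.assoc, f.normalizationPullback_snd,
      Scheme.Hom.toNormalization_fromNormalization, he2]
  have hP : IsPullback f.toNormalization h π j := by
    refine (IsPullback.of_hasPullback π j).of_iso (asIso φ).symm (Iso.refl _) (Iso.refl _) (Iso.refl _) ?_ ?_ ?_ ?_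
    · rw [Iso.refl_hom, Category.comp_id, ← hφ1, Iso.symm_hom, asIso_inv, IsIso.inv_hom_id_assoc]
    · rw [Iso.refl_hom, Category.comp_id, ← hφ2, Iso.symm_hom, asIso_inv, IsIso.inv_hom_id_assoc]
    · simp
    · simp
  refine hP.of_iso (Iso.refl _) W.isoSpec (Iso.refl _) (Iso.refl _) ?_ ?_ ?_ ?_
  · simp [ι, f]
  · simp
  · change π ≫ 𝟙 _ = W.isoSpec.hom ≫ spm α
    rw [hα, Iso.hom_inv_id_assoc, Category.comp_id]
  · simp

end K157.Norm
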