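import Groth.Agent.Etrest.StrictLocTensor

/-!
# Strict localizations of fibre products, one factor integral
-/

set_option autoImplicit false
universe u

open CategoryTheory CategoryTheory.Limits AlgebraicGeometry IsLocalRing TensorProduct
open Groth.Agent.Etrest.StrictLoc Groth.Agent.Etrest.StrictLocBC Groth.Agent.Etrest.StrictLocTensor
open Groth.Agent.Etrest

namespace K157.TensorLoc

theorem nontrivial_tensor (R A B : Type u) [CommRing R] [CommRing A] [CommRing B] [IsLocalRing R] [IsLocalRing A]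
    [IsLocalRing B] [Algebra R A] [Algebra R B] [IsLocalHom (algebraMap R A)] [IsLocalHom (algebraMap R B)] :
    Nontrivial (A ⊗[R] B) := by
  obtain ⟨x, -⟩ : ∃ x : ↥(pullback (spm (algebraMap R A)) (spm (algebraMap R B))), True := by
    obtain ⟨z, -, -⟩ := Scheme.Pullback.exists_preimage_pullback (f := spm (algebraMap R A))
      (g := spm (algebraMap R B)) (closedPoint A) (closedPoint B) (by
        refine (Spec_closedPoint (R := CommRingCat.of R) (S := CommRingCat.of A)
          (f := CommRingCat.ofHom (algebraMap R A))).trans ?_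
        exact (Spec_closedPoint (R := CommRingCat.of R) (S := CommRingCat.of B)
          (f := CommRingCat.ofHom (algebraMap R B))).symm)
    exact ⟨z, trivial⟩
  let y := (pullbackSpecIso R A B).hom x
  exact PrimeSpectrum.nonempty_iff_nontrivial.1 ⟨y⟩

section

variable {S S' X X' : Scheme.{u}} {f : X ⟶ S} {g : S' ⟶ S} {p₁ : X' ⟶ X} {p₂ : X' ⟶ S'}
  (hX : IsPullback p₁ p₂ f g) {RS RS' RX : Type u}
  [CommRing RS] [CommRing RS'] [CommRing RX] [IsLocalRing RS] [IsLocalRing RS']
  [IsLocalRing RX] [Algebra RS RS'] [Algebra RS RX]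
  [IsLocalHom (algebraMap RS RS')] [IsLocalHom (algebraMap RS RX)]
  {σ : Spec (CommRingCat.of RS) ⟶ S} {σ' : Spec (CommRingCat.of RS') ⟶ S'}
  {ξ : Spec (CommRingCat.of RX) ⟶ X}
  (hσ : IsStrictLoc σ) (hσ' : IsStrictLoc σ') (hξ : IsStrictLoc ξ)
  (hα : spm (algebraMap RS RS') ≫ σ = σ' ≫ g) (hβ : spm (algebraMap RS RX) ≫ σ = ξ ≫ f)
  [Algebra.IsIntegral RS RS']

include hX hσ hσ' hξ hα hβ in
/-- Let `X' = X ×_S S'` and let `R_S, R_S', R_X` be compatible strict localizations with
`R_S → R_S'` integral. Then `R_S' ⊗ R_X` is a strict localization of `X'`. -/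
theorem isStrictLoc_tensor : ∃ _ : IsLocalRing (RS' ⊗[RS] RX),
    IsLocalHom (Algebra.TensorProduct.includeLeft : RS' →ₐ[RS] RS' ⊗[RS] RX).toRingHom ∧
    IsLocalHom (Algebra.TensorProduct.includeRight : RX →ₐ[RS] RS' ⊗[RS] RX).toRingHom ∧
    ∃ ζ : Spec (CommRingCat.of (RS' ⊗[RS] RX)) ⟶ X', IsStrictLoc ζ ∧
      ζ ≫ p₁ = spm (Algebra.TensorProduct.includeRight : RX →ₐ[RS] RS' ⊗[RS] RX).toRingHom ≫ ξ ∧
      ζ ≫ p₂ = spm (Algebra.TensorProduct.includeLeft : RS' →ₐ[RS] RS' ⊗[RS] RX).toRingHom ≫ σ' := by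
  have := hσ.henselian
  have := hσ.sepClosed
  have := hξ.henselian
  have := hξ.sepClosed
  let iL : RS' →+* RS' ⊗[RS] RX :=
    (Algebra.TensorProduct.includeLeft : RS' →ₐ[RS] RS' ⊗[RS] RX).toRingHom
  let iR : RX →+* RS' ⊗[RS] RX :=
    (Algebra.TensorProduct.includeRight : RX →ₐ[RS] RS' ⊗[RS] RX).toRingHom
  have hLR : iL.comp (algebraMap RS RS') = iR.comp (algebraMap RS RX) := by
    have h1 := AlgHom.comp_algebraMap (Algebra.TensorProduct.includeRight : RX →ₐ[RS] RS' ⊗[RS] RX)
    have h2 := AlgHom.comp_algebraMap (Algebra.TensorProduct.includeLeft : RS' →ₐ[RS] RS' ⊗[RS] RX)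
    exact h2.trans h1.symm
  have hnt : Nontrivial (RS' ⊗[RS] RX) := nontrivial_tensor RS RS' RX
  have hlocal : IsLocalRing (RS' ⊗[RS] RX) := IntTensor.isLocalRing_tensor RS RS' RX
  have hiR : iR.IsIntegral := IntTensor.isIntegral_includeRight RS RS' RX
  have hiRloc : IsLocalHom iR := by
    have hmax : ((maximalIdeal (RS' ⊗[RS] RX)).comap iR).IsMaximal :=
      Ideal.isMaximal_comap_of_isIntegral_of_isMaximal' iR hiR _
    exact ((local_hom_TFAE iR).out 4 0 rfl rfl).mp (eq_maximalIdeal hmax)
  have hiLloc : IsLocalHom iL := by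
    have hc : IsLocalHom (iL.comp (algebraMap RS RS')) := by
      rw [hLR]
      infer_instance
    have hmax : ((maximalIdeal (RS' ⊗[RS] RX)).comap iL).IsMaximal := by
      have hp : ((maximalIdeal (RS' ⊗[RS] RX)).comap iL).IsPrime := Ideal.comap_isPrime _ _
      refine Ideal.isMaximal_of_isIntegral_of_isMaximal_comap' (algebraMap RS RS')
        (algebraMap_isIntegral_iff.2 inferInstance) _ ?_
      rw [Ideal.comap_comap]
      have : (maximalIdeal (RS' ⊗[RS] RX)).comap (iL.comp (algebraMap RS RS')) = maximalIdeal RS :=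
        ((local_hom_TFAE (iL.comp (algebraMap RS RS'))).out 0 4 rfl rfl).mp hc
      rw [this]
      infer_instance
    exact ((local_hom_TFAE iL).out 4 0 rfl rfl).mp (eq_maximalIdeal hmax)
  have hLR' : (spm iR ≫ ξ) ≫ f = (spm iL ≫ σ') ≫ g := by
    rw [Category.assoc, Category.assoc, ← hβ, ← hα, ← Category.assoc, ← Category.assoc,
      ← spm_comp, ← spm_comp, hLR]
  let ζ : Spec (CommRingCat.of (RS' ⊗[RS] RX)) ⟶ X' := hX.lift (spm iR ≫ ξ) (spm iL ≫ σ') hLR'
  have hζ₁ : ζ ≫ p₁ = spm iR ≫ ξ := IsPullback.lift_fst _ _ _ _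
  have hζ₂ : ζ ≫ p₂ = spm iL ≫ σ' := IsPullback.lift_snd _ _ _ _
  have hζ : IsStrictLoc ζ := by
    refine ⟨?_, ?_, ?_, ?_⟩
    · let _ : Algebra RX (RS' ⊗[RS] RX) := iR.toAlgebra
      have : Algebra.IsIntegral RX (RS' ⊗[RS] RX) := ⟨hiR⟩
      exact IntHens.henselianLocalRing_of_isIntegral RX _
    · let _ : Algebra RX (RS' ⊗[RS] RX) := iR.toAlgebra
      have : Algebra.IsIntegral RX (RS' ⊗[RS] RX) := ⟨hiR⟩
      have : IsLocalHom (algebraMap RX (RS' ⊗[RS] RX)) := inferInstanceAs (IsLocalHom iR)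
      have := IntTensor.isAlgebraic_residueField RX (RS' ⊗[RS] RX)
      exact Algebra.IsAlgebraic.isSepClosed (F := ResidueField RX)
        (E := ResidueField (RS' ⊗[RS] RX))
    · obtain ⟨i, hi⟩ := exists_residueField_hom (resPt (RS' ⊗[RS] RX) ≫ ζ) _ rfl
      generalize (resPt (RS' ⊗[RS] RX) ≫ ζ) (closedPoint (ResidueField (RS' ⊗[RS] RX))) = x' at i hi
      refine ⟨x', i, hi, ?_⟩
      let _ : Algebra (X'.residueField x') (ResidueField (RS' ⊗[RS] RX)) := i.toAlgebra
      let k₀ := separableClosure (X'.residueField x') (ResidueField (RS' ⊗[RS] RX))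
      have hR : ∀ y, ResidueField.map iR y ∈ k₀ := fun y => by
        obtain ⟨q, hq, hy⟩ := exists_separable p₁ hξ iR ζ hζ₁.symm x' i hi y
        exact mem_separableClosure_of q hq hy
      have hL : ∀ y, ResidueField.map iL y ∈ k₀ := fun y => by
        obtain ⟨q, hq, hy⟩ := exists_separable p₂ hσ' iL ζ hζ₂.symm x' i hi y
        exact mem_separableClosure_of q hq hy
      rw [sepAlg_iff' (i := i) rfl, Algebra.isSeparable_def]
      intro y
      obtain ⟨z, rfl⟩ := residue_surjective y
      suffices h : residue _ z ∈ k₀ from mem_separableClosure_iff.1 h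
      induction z using TensorProduct.induction_on with
      | zero => rw [map_zero]; exact zero_mem _
      | add x y hx hy => rw [map_add]; exact add_mem hx hy
      | tmul a b =>
        have : a ⊗ₜ[RS] b = iL a * iR b := by
          change a ⊗ₜ[RS] b = (a ⊗ₜ[RS] 1) * (1 ⊗ₜ[RS] b)
          simp
        rw [this, map_mul]
        exact mul_mem (hL (residue _ a)) (hR (residue _ b))
    · intro T _ _ t τ h
      have hc₁ : spm (τ.comp (ResidueField.map iR)) ≫ resPt RX ≫ ξ = resPt T ≫ t ≫ p₁ := by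
        rw [spm_comp, Category.assoc, ← Category.assoc (spm (ResidueField.map iR)), ← resPt_spm,
          Category.assoc, ← hζ₁, ← Category.assoc (resPt T), ← h]
        simp only [Category.assoc]
      have hc₂ : spm (τ.comp (ResidueField.map iL)) ≫ resPt RS' ≫ σ' = resPt T ≫ t ≫ p₂ := by
        rw [spm_comp, Category.assoc, ← Category.assoc (spm (ResidueField.map iL)), ← resPt_spm,
          Category.assoc, ← hζ₂, ← Category.assoc (resPt T), ← h]
        simp only [Category.assoc]
      obtain ⟨g₁, ⟨hg₁, hg₁'⟩, hg₁''⟩ := hξ.universal T (t ≫ p₁) _ hc₁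
      obtain ⟨g₂, ⟨hg₂, hg₂'⟩, hg₂''⟩ := hσ'.universal T (t ≫ p₂) _ hc₂
      have hres : (ResidueField.map iR).comp (ResidueField.map (algebraMap RS RX)) =
          (ResidueField.map iL).comp (ResidueField.map (algebraMap RS RS')) := by
        apply Ideal.Quotient.ringHom_ext
        have := congrArg (fun q => (residue (RS' ⊗[RS] RX)).comp q) hLR
        exact this.symm
      have hc₀ : spm ((τ.comp (ResidueField.map iR)).comp (ResidueField.map (algebraMap RS RX))) ≫
          resPt RS ≫ σ = resPt T ≫ t ≫ p₁ ≫ f := by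
        rw [spm_comp, Category.assoc, ← Category.assoc (spm (ResidueField.map _)), ← resPt_spm,
          Category.assoc, hβ, ← Category.assoc (resPt RX), ← Category.assoc, hc₁]
        simp only [Category.assoc]
      obtain ⟨g₀, -, hg₀⟩ := hσ.universal T (t ≫ p₁ ≫ f) _ hc₀
      have hcompat : g₂.comp (algebraMap RS RS') = g₁.comp (algebraMap RS RX) := by
        refine (hg₀ (g₂.comp (algebraMap RS RS')) ⟨?_, ?_⟩).trans
          (hg₀ (g₁.comp (algebraMap RS RX)) ⟨?_, ?_⟩).symm
        · rw [spm_comp, Category.assoc, hα, ← Category.assoc, hg₂, Category.assoc, hX.w]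
        · intro x
          rw [RingHom.comp_assoc, hres, RingHom.comp_apply, hg₂']
          rfl
        · rw [spm_comp, Category.assoc, hβ, ← Category.assoc, hg₁, Category.assoc]
        · intro x
          rw [RingHom.comp_apply, hg₁']
          rfl
      obtain ⟨G, hGL, hGR⟩ := exists_lift g₂ g₁ hcompat
      have hGL' : G.comp iL = g₂ := hGL
      have hGR' : G.comp iR = g₁ := hGR
      refine ⟨G, ⟨?_, ?_⟩, ?_⟩
      · apply hX.hom_ext
        · rw [Category.assoc, hζ₁, ← Category.assoc, ← spm_comp, hGR', hg₁]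
        · rw [Category.assoc, hζ₂, ← Category.assoc, ← spm_comp, hGL', hg₂]
      · have : (residue T).comp G = τ.comp (residue (RS' ⊗[RS] RX)) := by
          apply Algebra.TensorProduct.ringHom_ext
          · change (residue T).comp (G.comp iL) = (τ.comp (residue (RS' ⊗[RS] RX))).comp iL
            rw [hGL']
            ext x
            exact hg₂' x
          · change (residue T).comp (G.comp iR) = (τ.comp (residue (RS' ⊗[RS] RX))).comp iR
            rw [hGR']
            ext x
            exact hg₁' x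
        exact fun z => congrArg (fun q : RS' ⊗[RS] RX →+* ResidueField T => q z) this
      · rintro G' ⟨hG'1, hG'2⟩
        apply Algebra.TensorProduct.ringHom_ext
        · change G'.comp iL = G.comp iL
          rw [hGL']
          apply hg₂''
          refine ⟨?_, fun x => ?_⟩
          · rw [spm_comp, Category.assoc, ← hζ₂, ← Category.assoc, hG'1]
          · rw [RingHom.comp_apply, hG'2]
            rfl
        · change G'.comp iR = G.comp iR
          rw [hGR']
          apply hg₁''
          refine ⟨?_, fun x => ?_⟩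
          · rw [spm_comp, Category.assoc, ← hζ₁, ← Category.assoc, hG'1]
          · rw [RingHom.comp_apply, hG'2]
            rfl
  exact ⟨hlocal, hiLloc, hiRloc, ζ, hζ, hζ₁, hζ₂⟩

end

end K157.TensorLoc
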